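/-
Power formulas for an element acting by conjugation, and metacyclicity criteria, used for the
p-groups of rank two.
-/
import Cfsg.Prelude.Def_OddOrderLocal
import Cfsg.Agent.Lib.PGroups.ClassTwo
import Cfsg.Agent.Lib.PGroups.Frattini
import Cfsg.Agent.Lib.TwoGroups.RankOne

set_option autoImplicit false
set_option linter.style.haveILetI false

namespace CfsgLib.RankTwoP

variable {G : Type*} [Group G]

/-- Iterated conjugation along a chain `u ↦ u f`, `f ↦ f g`, `g ↦ g h`, `h ↦ h`. -/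
theorem conj_pow_chain {x u f g h : G} (hu : x⁻¹ * u * x = u * f) (hf : x⁻¹ * f * x = f * g)
    (hg : x⁻¹ * g * x = g * h) (hh : x⁻¹ * h * x = h) (cfg : Commute f g) (cfh : Commute f h)
    (cgh : Commute g h) (n : ℕ) :
    (x ^ n)⁻¹ * u * x ^ n = u * f ^ n * g ^ n.choose 2 * h ^ n.choose 3 := by
  induction n with
  | zero => simp [Nat.choose_zero_succ]
  | succ n ih =>
    have hc : ∀ (a : G) (k : ℕ), x⁻¹ * a ^ k * x = (x⁻¹ * a * x) ^ k := fun a k => by
      have h := map_pow (MulAut.conj x⁻¹) a k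
      simp only [MulAut.conj_apply, inv_inv] at h
      exact h
    have e : ∀ a b : G, x⁻¹ * (a * b) * x = (x⁻¹ * a * x) * (x⁻¹ * b * x) := fun a b => by group
    rw [pow_succ, show (x ^ n * x)⁻¹ * u * (x ^ n * x) = x⁻¹ * ((x ^ n)⁻¹ * u * x ^ n) * x by group,
      ih, e, e, e, hu, hc, hf, hc, hg, hc, hh, cfg.mul_pow, cgh.mul_pow]
    rw [Nat.choose_succ_succ' n 1, Nat.choose_succ_succ' n 2, Nat.choose_one_right]
    simp only [mul_assoc, pow_add, pow_succ]
    calc u * (f * (f ^ n * (g ^ n * (g ^ n.choose 2 * (h ^ n.choose 2 * h ^ n.choose 3)))))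
        = u * ((f * f ^ n) * (g ^ n * (g ^ n.choose 2 * (h ^ n.choose 2 * h ^ n.choose 3)))) := by
          simp only [mul_assoc]
      _ = _ := by rw [← pow_succ', pow_succ, mul_assoc]

/-- The power of a product of `x` with an element `v` moved along a commuting chain. -/
theorem mul_pow_chain {x v f g : G} (hv : x⁻¹ * v * x = v * f) (hf : x⁻¹ * f * x = f * g)
    (hg : x⁻¹ * g * x = g) (cvf : Commute v f) (cvg : Commute v g) (cfg : Commute f g) (n : ℕ) :
    (x * v) ^ n = x ^ n * (v ^ n * f ^ n.choose 2 * g ^ n.choose 3) := by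
  induction n with
  | zero => simp [Nat.choose_zero_succ]
  | succ n ih =>
    have hc : ∀ (a : G) (k : ℕ), x⁻¹ * a ^ k * x = (x⁻¹ * a * x) ^ k := fun a k => by
      have h := map_pow (MulAut.conj x⁻¹) a k
      simp only [MulAut.conj_apply, inv_inv] at h
      exact h
    have e : ∀ a b : G, x⁻¹ * (a * b) * x = (x⁻¹ * a * x) * (x⁻¹ * b * x) := fun a b => by group
    rw [pow_succ, ih, show x ^ n * (v ^ n * f ^ n.choose 2 * g ^ n.choose 3) * (x * v) =
      x ^ (n + 1) * (x⁻¹ * (v ^ n * f ^ n.choose 2 * g ^ n.choose 3) * x * v) by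
        rw [pow_succ]; group]
    congr 1
    rw [e, e, hc, hv, hc, hf, hc, hg, cvf.mul_pow, cfg.mul_pow, Nat.choose_succ_succ' n 1,
      Nat.choose_succ_succ' n 2, Nat.choose_one_right]
    simp only [pow_add, pow_succ]
    have c1 : Commute (v) (f ^ n * (f ^ n.choose 2 * g ^ n.choose 2) * g ^ n.choose 3) :=
      (((cvf.pow_right _).mul_right ((cvf.pow_right _).mul_right (cvg.pow_right _))).mul_right
        (cvg.pow_right _))
    calc v ^ n * f ^ n * (f ^ n.choose 2 * g ^ n.choose 2) * g ^ n.choose 3 * v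
        = v ^ n * (f ^ n * (f ^ n.choose 2 * g ^ n.choose 2) * g ^ n.choose 3 * v) := by
          simp only [mul_assoc]
      _ = v ^ n * (v * (f ^ n * (f ^ n.choose 2 * g ^ n.choose 2) * g ^ n.choose 3)) := by
          rw [c1.eq]
      _ = _ := by simp only [mul_assoc]

theorem pow_choose_two_eq_one {p : ℕ} (hodd : Odd p) {a : G} (h : a ^ p = 1) :
    a ^ p.choose 2 = 1 := by
  obtain ⟨k, hk⟩ := PGroups.dvd_choose_two_of_odd hodd
  rw [hk, pow_mul, h, one_pow]

theorem pow_choose_three_eq_one {p : ℕ} [hp : Fact p.Prime] (h3 : 3 < p) {a : G} (h : a ^ p = 1) :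
    a ^ p.choose 3 = 1 := by
  obtain ⟨k, hk⟩ := hp.out.dvd_choose_self (k := 3) (by omega) h3
  rw [hk, pow_mul, h, one_pow]

theorem prime_eq_three {p : ℕ} [hp : Fact p.Prime] (h2 : p ≠ 2) {a : G} (h : a ^ p = 1)
    (hne : a ^ p.choose 3 ≠ 1) : p = 3 := by
  by_contra h3
  exact hne (pow_choose_three_eq_one (by have := hp.out.two_le; omega) h)

/-- `r ^ p ≡ 1 (mod p ^ (m + 1))` forces `r ≡ 1 (mod p ^ m)` for odd `p`. -/
theorem dvd_sub_one_of_pow {p m : ℕ} [hp : Fact p.Prime] (hodd : Odd p) {r : ℤ}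
    (h : ((p : ℤ) ^ (m + 1)) ∣ r ^ p - 1) : ((p : ℤ) ^ m) ∣ r - 1 := by
  have h1 : (p : ℤ) ∣ r - 1 := by
    have hd : (p : ℤ) ∣ r ^ p - 1 := (dvd_pow_self _ m.succ_ne_zero).trans h
    rw [← ZMod.intCast_zmod_eq_zero_iff_dvd, Int.cast_sub, Int.cast_pow, Int.cast_one,
      ZMod.pow_card] at hd
    rw [← ZMod.intCast_zmod_eq_zero_iff_dvd, Int.cast_sub, Int.cast_one]
    exact hd
  obtain ⟨u, hu, hsum⟩ := TwoGroups.geom_sum_eq_mul hodd h1
  have h2 := geom_sum_mul r p
  rw [hsum] at h2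
  rw [← h2, pow_succ', mul_assoc] at h
  have hp0 : (p : ℤ) ≠ 0 := Nat.cast_ne_zero.2 hp.out.ne_zero
  exact (IsCoprime.pow_left hu.symm).dvd_of_dvd_mul_left ((mul_dvd_mul_iff_left hp0).1 h)

end CfsgLib.RankTwoP
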