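/-
Metacyclic p-groups for odd p: a criterion and a lifting lemma.
-/
import Cfsg.Agent.Lib.RankTwoP.PowerTools
import Cfsg.Agent.Lib.PGroups.Omega

set_option autoImplicit false
set_option linter.style.haveILetI false

open scoped commutatorElement

namespace CfsgLib.RankTwoP

variable {G : Type*} [Group G] {p : ℕ}

/-- Elements of a cyclic p-group not generating it are p-th powers of the generator's powers. -/
theorem mem_zpowers_pow_of_proper [Finite G] [hp : Fact p.Prime] (hG : IsPGroup p G) {a : G}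
    {H : Subgroup G} (hH : H ≤ Subgroup.zpowers a) (hne : H ≠ Subgroup.zpowers a) :
    H ≤ Subgroup.zpowers (a ^ p) := by
  intro x hx
  obtain ⟨j, rfl⟩ := Subgroup.mem_zpowers_iff.1 (hH hx)
  by_cases hj : (p : ℤ) ∣ j
  · obtain ⟨k, rfl⟩ := hj
    exact Subgroup.mem_zpowers_iff.2 ⟨k, by rw [zpow_mul, zpow_natCast]⟩
  · exfalso
    apply hne
    refine le_antisymm hH (Subgroup.zpowers_le.2 ?_)
    obtain ⟨k, hk⟩ := IsPGroup.iff_orderOf.1 hG a
    have hc : IsCoprime j ((p : ℤ) ^ k) :=
      (((Nat.prime_iff_prime_int.1 hp.out).irreducible.coprime_iff_not_dvd).2 hj).symm.pow_right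
    obtain ⟨u, v, huv⟩ := hc
    have : a = (a ^ j) ^ u := by
      conv_lhs => rw [← zpow_one a, ← huv, zpow_add, mul_comm v, zpow_mul a ((p : ℤ) ^ k) v,
        ← Nat.cast_pow, zpow_natCast, ← hk, pow_orderOf_eq_one, one_zpow, mul_one, mul_comm u,
        zpow_mul]
    rw [this]
    exact zpow_mem hx u

/-- Two generators, an abelian derived group inside the subgroup generated by the p-th powers:
the derived group is cyclic. -/
theorem exists_commutator_eq_zpowers [Finite G] [hp : Fact p.Prime] (h2 : p ≠ 2)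
    (hG : IsPGroup p G) {a b : G} (hgen : Subgroup.closure ({a, b} : Set G) = ⊤)
    (hab : ∀ x ∈ commutator G, ∀ y ∈ commutator G, x * y = y * x)
    (hsub : commutator G ≤ Subgroup.closure {g | ∃ y : G, y ^ p = g}) :
    commutator G = Subgroup.zpowers ⁅a, b⁆ := by
  classical
  have hnil := hG.isNilpotent
  set D := commutator G with hD
  have hDn : D.Normal := by rw [hD]; infer_instance
  let N : Subgroup G :=
    { carrier := {t | ∃ k ∈ D, k ^ p = t}
      one_mem' := ⟨1, one_mem _, one_pow p⟩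
      mul_mem' := by
        rintro _ _ ⟨k, hk, rfl⟩ ⟨l, hl, rfl⟩
        exact ⟨k * l, mul_mem hk hl, Commute.mul_pow (hab k hk l hl) p⟩
      inv_mem' := by
        rintro _ ⟨k, hk, rfl⟩
        exact ⟨k⁻¹, inv_mem hk, inv_pow k p⟩ }
  have hND : N ≤ D := by rintro _ ⟨k, hk, rfl⟩; exact pow_mem hk p
  have hNn : N.Normal := ⟨by
    rintro _ ⟨k, hk, rfl⟩ g
    exact ⟨g * k * g⁻¹, hDn.conj_mem k hk g, conj_pow⟩⟩
  set D3 := ⁅D, (⊤ : Subgroup G)⁆ with hD3
  have : D3.Normal := by rw [hD3]; infer_instance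
  set D4 := ⁅D3, (⊤ : Subgroup G)⁆ with hD4
  have : D4.Normal := by rw [hD4]; infer_instance
  have hKle : D3 ≤ D4 ⊔ N := by
    set q := QuotientGroup.mk' (D4 ⊔ N)
    have hcen : ∀ w ∈ D, ∀ y : G, q ⁅w, y⁆ ∈ Subgroup.center (G ⧸ (D4 ⊔ N)) := by
      intro w hw y
      rw [Subgroup.mem_center_iff]
      intro z
      obtain ⟨z, rfl⟩ := QuotientGroup.mk'_surjective _ z
      have h1 : ⁅⁅w, y⁆, z⁆ ∈ D4 ⊔ N := Subgroup.mem_sup_left (Subgroup.commutator_mem_commutator
        (Subgroup.commutator_mem_commutator hw (Subgroup.mem_top y)) (Subgroup.mem_top z))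
      have h2 : ⁅q ⁅w, y⁆, q z⁆ = 1 := by
        rw [← map_commutatorElement]; exact (QuotientGroup.eq_one_iff _).2 h1
      exact (commutatorElement_eq_one_iff_mul_comm.1 h2).symm
    have hexp : ∀ w ∈ D, q w ^ p = 1 := fun w hw => by
      rw [← map_pow]
      exact (QuotientGroup.eq_one_iff _).2 (Subgroup.mem_sup_right ⟨w, hw, rfl⟩)
    have hpc : ∀ g : G, q (g ^ p) ∈ Subgroup.center (G ⧸ (D4 ⊔ N)) := by
      intro g
      rw [Subgroup.mem_center_iff]
      intro y
      obtain ⟨y, rfl⟩ := QuotientGroup.mk'_surjective _ y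
      set k := ⁅g⁻¹, y⁆ with hk
      have hkD : k ∈ D := Subgroup.commutator_mem_commutator (Subgroup.mem_top _) (Subgroup.mem_top _)
      have hgk : y * g * y⁻¹ = g * k := by rw [hk, commutatorElement_def]; group
      have hgkD : ⁅k, g⁆ ∈ D := hDn.conj_mem _ hkD k |> fun _ =>
        Subgroup.commutator_mem_commutator (Subgroup.mem_top _) (Subgroup.mem_top _)
      have hpow : (q g * q k) ^ p = q g ^ p * q k ^ p := by
        refine PGroups.mul_pow_of_central_odd ?_ (PGroups.odd_prime h2) ?_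
        · rw [← map_commutatorElement]; exact hcen k hkD g
        · rw [← map_commutatorElement]; exact hexp _ hgkD
      have h1 : q y * q (g ^ p) * (q y)⁻¹ = q (g ^ p) := by
        rw [← map_inv, ← map_mul, ← map_mul, ← conj_pow, hgk, map_pow, map_mul, hpow, hexp k hkD,
          mul_one, map_pow]
      calc q y * q (g ^ p) = q y * q (g ^ p) * (q y)⁻¹ * q y := by group
        _ = q (g ^ p) * q y := by rw [h1]
    rw [hD3, Subgroup.commutator_le]
    intro w hw y _
    have hwc : q w ∈ Subgroup.center (G ⧸ (D4 ⊔ N)) := by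
      have : Subgroup.closure {g | ∃ y : G, y ^ p = g} ≤ (Subgroup.center _).comap q :=
        (Subgroup.closure_le _).2 (by rintro _ ⟨g, rfl⟩; exact hpc g)
      exact this (hsub hw)
    rw [← QuotientGroup.eq_one_iff]
    show q ⁅w, y⁆ = 1
    rw [map_commutatorElement, commutatorElement_eq_one_iff_mul_comm]
    exact (Subgroup.mem_center_iff.1 hwc (q y)).symm
  have hD3N : D3 ≤ N := by
    set q := QuotientGroup.mk' N
    have hq := hG.to_quotient N
    have := hq.isNilpotent
    have hmap : D3.map q ≤ ⁅D3.map q, (⊤ : Subgroup (G ⧸ N))⁆ := by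
      rw [← Subgroup.map_top_of_surjective q (QuotientGroup.mk'_surjective N),
        ← Subgroup.map_commutator]
      intro _ hx
      obtain ⟨x, hx, rfl⟩ := hx
      obtain ⟨u, hu, v, hv, rfl⟩ := Subgroup.mem_sup_of_normal_right.1 (hKle hx)
      rw [map_mul, show q v = 1 from (QuotientGroup.eq_one_iff v).2 hv, mul_one]
      exact Subgroup.mem_map_of_mem q hu
    have hbot : D3.map q = ⊥ := by
      by_contra hne
      have := Subgroup.Normal.map ‹D3.Normal› q (QuotientGroup.mk'_surjective N)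
      exact (PGroups.commutator_top_lt hne).not_ge hmap
    rw [Subgroup.map_eq_bot_iff, QuotientGroup.ker_mk'] at hbot
    exact hbot
  set c := ⁅a, b⁆ with hc
  have hcD : c ∈ D := Subgroup.commutator_mem_commutator (Subgroup.mem_top _) (Subgroup.mem_top _)
  set L := Subgroup.zpowers c ⊔ N with hL
  have hLD : L ≤ D := sup_le (Subgroup.zpowers_le.2 hcD) hND
  have hLn : L.Normal := PGroups.normal_of_commutator_le hLD (hD3N.trans le_sup_right)
  have hDL : D ≤ L := by
    set q := QuotientGroup.mk' L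
    have hqab : q a * q b = q b * q a := by
      rw [← commutatorElement_eq_one_iff_mul_comm, ← map_commutatorElement]
      exact (QuotientGroup.eq_one_iff _).2 (Subgroup.mem_sup_left (Subgroup.mem_zpowers c))
    have ha : ∀ x : G, q a * q x = q x * q a := fun x => by
      have : Subgroup.closure ({a, b} : Set G) ≤ (Subgroup.centralizer {q a}).comap q := by
        refine (Subgroup.closure_le _).2 ?_
        rintro _ (rfl | rfl)
        · exact Subgroup.mem_centralizer_singleton_iff.2 rfl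
        · exact Subgroup.mem_centralizer_singleton_iff.2 hqab.symm
      rw [hgen] at this
      exact (Subgroup.mem_centralizer_singleton_iff.1 (this (Subgroup.mem_top x))).symm
    have hb : ∀ x : G, q b * q x = q x * q b := fun x => by
      have : Subgroup.closure ({a, b} : Set G) ≤ (Subgroup.centralizer {q b}).comap q := by
        refine (Subgroup.closure_le _).2 ?_
        rintro _ (rfl | rfl)
        · exact Subgroup.mem_centralizer_singleton_iff.2 hqab
        · exact Subgroup.mem_centralizer_singleton_iff.2 rfl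
      rw [hgen] at this
      exact (Subgroup.mem_centralizer_singleton_iff.1 (this (Subgroup.mem_top x))).symm
    have hall : ∀ x : G, q x ∈ Subgroup.center (G ⧸ L) := by
      have : Subgroup.closure ({a, b} : Set G) ≤ (Subgroup.center (G ⧸ L)).comap q := by
        refine (Subgroup.closure_le _).2 ?_
        rintro _ (rfl | rfl) <;> refine Subgroup.mem_center_iff.2 fun z => ?_ <;>
          obtain ⟨z, rfl⟩ := QuotientGroup.mk'_surjective _ z
        · exact (ha z).symm
        · exact (hb z).symm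
      rw [hgen] at this
      exact fun x => this (Subgroup.mem_top x)
    rw [hD, commutator_def, Subgroup.commutator_le]
    intro x _ y _
    rw [← QuotientGroup.eq_one_iff]
    show q ⁅x, y⁆ = 1
    rw [map_commutatorElement, commutatorElement_eq_one_iff_mul_comm]
    exact (Subgroup.mem_center_iff.1 (hall x) (q y)).symm
  have hiter : ∀ m : ℕ, ∀ k ∈ D, ∃ i : ℤ, ∃ l ∈ D, k = c ^ i * l ^ p ^ m := by
    intro m
    induction m with
    | zero => exact fun k hk => ⟨0, k, hk, by simp⟩
    | succ m ih =>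
      intro k hk
      obtain ⟨i, l, hl, rfl⟩ := ih k hk
      obtain ⟨u, hu, v, ⟨l', hl', rfl⟩, rfl⟩ := Subgroup.mem_sup_of_normal_right.1 (hDL hl)
      obtain ⟨j, rfl⟩ := Subgroup.mem_zpowers_iff.1 hu
      refine ⟨i + j * (p ^ m : ℕ), l', hl', ?_⟩
      rw [Commute.mul_pow (hab _ (zpow_mem hcD j) _ (pow_mem hl' p)), ← pow_mul, ← pow_succ',
        ← zpow_natCast (c ^ j), ← zpow_mul, ← mul_assoc, ← zpow_add]
  refine le_antisymm (fun k hk => ?_) (Subgroup.zpowers_le.2 hcD)
  obtain ⟨M, hM⟩ := IsPGroup.iff_card.1 hG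
  obtain ⟨i, l, -, rfl⟩ := hiter M k hk
  rw [← hM, pow_card_eq_one', mul_one]
  exact ⟨i, rfl⟩

/-- For odd `p` and cyclic derived group the product of two p-th powers is a p-th power. -/
theorem exists_pow_eq_mul [Finite G] [hp : Fact p.Prime] (h2 : p ≠ 2) (hG : IsPGroup p G) {c : G}
    (hc : commutator G = Subgroup.zpowers c) (g h : G) : ∃ w : G, w ^ p = g ^ p * h ^ p := by
  have hnil := hG.isNilpotent
  have hcD : c ∈ commutator G := hc ▸ Subgroup.mem_zpowers c
  have hconj : ∀ x : G, ∃ r : ℤ, (p : ℤ) ∣ r - 1 ∧ x * c * x⁻¹ = c ^ r := by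
    intro x
    rcases eq_or_ne c 1 with hc1 | hc1
    · exact ⟨1, by simp, by simp [hc1]⟩
    have hlt : ⁅commutator G, (⊤ : Subgroup G)⁆ < commutator G := PGroups.commutator_top_lt
      (fun h => hc1 (Subgroup.mem_bot.1 (h ▸ hcD)))
    have h1 : ⁅c, x⁆ ∈ ⁅commutator G, (⊤ : Subgroup G)⁆ :=
      Subgroup.commutator_mem_commutator hcD (Subgroup.mem_top x)
    obtain ⟨k, hk⟩ := Subgroup.mem_zpowers_iff.1
      (mem_zpowers_pow_of_proper hG (hlt.le.trans hc.le) (fun h => hlt.ne (h.trans hc.symm)) h1)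
    refine ⟨-((p : ℤ) * k) + 1, ⟨-k, by ring⟩, ?_⟩
    rw [← zpow_natCast, ← zpow_mul, commutatorElement_def] at hk
    rw [zpow_add, zpow_one, zpow_neg, hk]
    group
  have hA : ∀ (j : ℤ) (x : G), ∃ w : G, w ^ p = c ^ ((p : ℤ) * j) * x ^ p := by
    intro j x
    obtain ⟨r, hr, hx⟩ := hconj x
    obtain ⟨u, hu, hsum⟩ := TwoGroups.geom_sum_eq_mul (PGroups.odd_prime h2) hr
    obtain ⟨k, hk⟩ := IsPGroup.iff_orderOf.1 hG c
    obtain ⟨s, t, hst⟩ := (IsCoprime.pow_right hu : IsCoprime u ((p : ℤ) ^ k))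
    refine ⟨c ^ (j * s) * x, ?_⟩
    rw [TwoGroups.zpow_mul_pow_eq hx, hsum]
    congr 1
    have : j * s * ((p : ℤ) * u) = (p : ℤ) * j + (p : ℤ) ^ k * (-((p : ℤ) * j * t)) := by
      linear_combination (p : ℤ) * j * hst
    rw [this, zpow_add, zpow_mul c ((p : ℤ) ^ k), ← Nat.cast_pow, zpow_natCast, ← hk,
      pow_orderOf_eq_one, one_zpow, mul_one]
  set N := Subgroup.zpowers (c ^ p) with hN
  have hNn : N.Normal := by
    refine ⟨fun n hn x => ?_⟩
    obtain ⟨i, rfl⟩ := Subgroup.mem_zpowers_iff.1 hn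
    obtain ⟨r, -, hx⟩ := hconj x
    refine Subgroup.mem_zpowers_iff.2 ⟨r * i, ?_⟩
    rw [← conj_zpow, ← conj_pow, hx, ← zpow_natCast (c ^ r), ← zpow_natCast c, ← zpow_mul,
      ← zpow_mul, ← zpow_mul]
    congr 1; ring
  set q := QuotientGroup.mk' N
  have hqc : ∀ x : G, q c * q x = q x * q c := by
    intro x
    obtain ⟨r, ⟨s, hs⟩, hx⟩ := hconj x
    have h1 : q (x * c * x⁻¹) = q c := by
      rw [hx, show r = 1 + (p : ℤ) * s by linear_combination hs, zpow_add, zpow_one, map_mul,
        zpow_mul, zpow_natCast, show q ((c ^ p) ^ s) = 1 from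
          (QuotientGroup.eq_one_iff _).2 (zpow_mem (Subgroup.mem_zpowers _) s), mul_one]
    rw [map_mul, map_mul, map_inv] at h1
    calc q c * q x = q x * q c * (q x)⁻¹ * q x := by rw [h1]
      _ = q x * q c := by group
  obtain ⟨i, hi⟩ := Subgroup.mem_zpowers_iff.1
    (hc ▸ Subgroup.commutator_mem_commutator (Subgroup.mem_top h) (Subgroup.mem_top g) :
      ⁅h, g⁆ ∈ Subgroup.zpowers c)
  have hq : q ((g * h) ^ p) = q (g ^ p * h ^ p) := by
    rw [map_pow, map_mul, map_mul, map_pow, map_pow]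
    refine PGroups.mul_pow_of_central_odd ?_ (PGroups.odd_prime h2) ?_
    · rw [← map_commutatorElement, ← hi, map_zpow]
      refine zpow_mem (Subgroup.mem_center_iff.2 fun z => ?_) i
      obtain ⟨z, rfl⟩ := QuotientGroup.mk'_surjective _ z
      exact (hqc z).symm
    · rw [← map_commutatorElement, ← map_pow, ← hi]
      refine (QuotientGroup.eq_one_iff _).2 ?_
      rw [← zpow_natCast, ← zpow_mul, mul_comm, zpow_mul, zpow_natCast]
      exact zpow_mem (Subgroup.mem_zpowers _) i
  obtain ⟨d, hd, hd'⟩ := (QuotientGroup.mk'_eq_mk' (N := N)).1 hq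
  obtain ⟨j, rfl⟩ := Subgroup.mem_zpowers_iff.1 hd
  have hd2 : g ^ p * h ^ p =
      ((g * h) ^ p * (c ^ p) ^ j * ((g * h) ^ p)⁻¹) * (g * h) ^ p := by rw [← hd']; group
  obtain ⟨j', hj'⟩ := Subgroup.mem_zpowers_iff.1
    (hNn.conj_mem _ (zpow_mem (Subgroup.mem_zpowers (c ^ p)) j) ((g * h) ^ p))
  rw [← hj', ← zpow_natCast c, ← zpow_mul] at hd2
  rw [hd2]
  exact hA j' (g * h)

/-- Criterion for metacyclicity. -/
theorem isMetacyclic_of_two_gen {X : Type*} [Group X] [Finite X] [hp : Fact p.Prime] (h2 : p ≠ 2)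
    (hX : IsPGroup p X) {a b : X} (hgen : Subgroup.closure ({a, b} : Set X) = ⊤)
    (hab : ∀ x ∈ commutator X, ∀ y ∈ commutator X, x * y = y * x)
    (hsub : commutator X ≤ Subgroup.closure {g | ∃ y : X, y ^ p = g}) :
    Cfsg.IsMetacyclic X := by
  classical
  have hD := exists_commutator_eq_zpowers h2 hX hgen hab hsub
  set c := ⁅a, b⁆
  let W : Subgroup X :=
    { carrier := {t | ∃ y : X, y ^ p = t}
      one_mem' := ⟨1, one_pow p⟩
      mul_mem' := by
        rintro _ _ ⟨g, rfl⟩ ⟨h, rfl⟩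
        exact exists_pow_eq_mul h2 hX hD g h
      inv_mem' := by
        rintro _ ⟨g, rfl⟩
        exact ⟨g⁻¹, inv_pow g p⟩ }
  have hW : frattini X ≤ W := PGroups.frattini_le_of
    (hsub.trans ((Subgroup.closure_le W).2 fun _ h => h)) fun x => ⟨x, rfl⟩
  obtain ⟨g, hg, hmax⟩ := Set.exists_max_image {g : X | c ∈ Subgroup.zpowers g}
    (fun g => orderOf g) (Set.toFinite _) ⟨c, Subgroup.mem_zpowers c⟩
  rcases eq_or_ne g 1 with rfl | hg1
  · refine ⟨⊥, inferInstance, inferInstance, ?_⟩
    have hc : c = 1 := by simpa using hg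
    have : ∀ h : X, h = 1 := fun h => by
      have := hmax h (show c ∈ Subgroup.zpowers h from hc ▸ one_mem _)
      rw [orderOf_one] at this
      exact orderOf_eq_one_iff.1 (le_antisymm this (orderOf_pos h))
    have : Subsingleton X := ⟨fun x y => (this x).trans (this y).symm⟩
    exact isCyclic_of_subsingleton
  have hgF : g ∉ frattini X := by
    intro hgF
    obtain ⟨h, rfl⟩ := hW hgF
    have h1 := hmax h (show c ∈ Subgroup.zpowers h from
      (Subgroup.zpowers_le.2 (pow_mem (Subgroup.mem_zpowers h) p)) hg)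
    obtain ⟨k, hk⟩ := IsPGroup.iff_orderOf.1 hX h
    rcases k with _ | k
    · rw [pow_zero, orderOf_eq_one_iff] at hk
      exact hg1 (by rw [hk, one_pow])
    rw [orderOf_pow_of_dvd hp.out.ne_zero (hk ▸ dvd_pow_self p k.succ_ne_zero), hk, pow_succ,
      Nat.mul_div_cancel _ hp.out.pos] at h1
    have := pow_pos hp.out.pos k
    have := hp.out.two_le
    nlinarith
  have hDg : commutator X ≤ Subgroup.zpowers g := hD ▸ Subgroup.zpowers_le.2 hg
  have hn : (Subgroup.zpowers g).Normal := Subgroup.commutator_top_right_le_iff.1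
    ((Subgroup.commutator_mono le_top le_rfl).trans hDg)
  refine ⟨Subgroup.zpowers g, hn, inferInstance, ?_⟩
  obtain ⟨h, hh⟩ : ∃ h : X, Subgroup.zpowers g ⊔ Subgroup.zpowers h = ⊤ := by
    set F := frattini X
    have hFc : commutator X ≤ F := PGroups.commutator_le_frattini hX
    have htop : (F ⊔ Subgroup.zpowers a) ⊔ Subgroup.zpowers b = ⊤ := by
      rw [← top_le_iff, ← hgen, Subgroup.closure_le]
      intro x hx
      rcases Set.mem_insert_iff.1 hx with hx | hx
      · rw [hx]; exact Subgroup.mem_sup_left (Subgroup.mem_sup_right (Subgroup.mem_zpowers a))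
      · rw [Set.mem_singleton_iff.1 hx]; exact Subgroup.mem_sup_right (Subgroup.mem_zpowers b)
    obtain ⟨y, hy, j, hj⟩ := PGroups.mem_sup_zpowers (hFc.trans le_sup_left)
      (htop ▸ Subgroup.mem_top g)
    obtain ⟨f, hf, i, rfl⟩ := PGroups.mem_sup_zpowers hFc hy
    have key : ∀ (u : X) (k : ℤ) (H : Subgroup X), F ≤ H → u ^ k ∈ H → ¬ (p : ℤ) ∣ k → u ∈ H := by
      intro u k H hFH hu hk
      obtain ⟨s, t, hst⟩ :=
        ((Nat.prime_iff_prime_int.1 hp.out).irreducible.coprime_iff_not_dvd).2 hk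
      rw [show u = (u ^ p) ^ s * (u ^ k) ^ t by
        rw [← zpow_natCast u p, ← zpow_mul, ← zpow_mul, ← zpow_add, mul_comm (p : ℤ), mul_comm k,
          hst, zpow_one]]
      exact mul_mem (zpow_mem (hFH (PGroups.pow_mem_frattini hX u)) s) (zpow_mem hu t)
    have hpp : ∀ (u : X) (k : ℤ), (p : ℤ) ∣ k → u ^ k ∈ F := fun u k ⟨l, hl⟩ => by
      rw [hl, zpow_mul, zpow_natCast]
      exact zpow_mem (PGroups.pow_mem_frattini hX u) l
    have done' : ∀ u : X, a ∈ F ⊔ Subgroup.zpowers g ⊔ Subgroup.zpowers u →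
        b ∈ F ⊔ Subgroup.zpowers g ⊔ Subgroup.zpowers u →
        Subgroup.zpowers g ⊔ Subgroup.zpowers u = ⊤ := fun u hu hv => by
      apply frattini_nongenerating
      rw [sup_comm _ (frattini X), ← sup_assoc, ← top_le_iff, ← hgen, Subgroup.closure_le]
      rintro _ (rfl | rfl)
      · exact hu
      · exact hv
    by_cases hj' : (p : ℤ) ∣ j
    · by_cases hi' : (p : ℤ) ∣ i
      · exact absurd (hj ▸ mul_mem (mul_mem hf (hpp a i hi')) (hpp b j hj')) hgF
      · refine ⟨b, done' b ?_ (Subgroup.mem_sup_right (Subgroup.mem_zpowers b))⟩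
        refine key a i _ (le_sup_left.trans le_sup_left) ?_ hi'
        rw [show a ^ i = f⁻¹ * g * (b ^ j)⁻¹ by rw [hj]; group]
        exact mul_mem (Subgroup.mem_sup_left (mul_mem (Subgroup.mem_sup_left (inv_mem hf))
          (Subgroup.mem_sup_right (Subgroup.mem_zpowers g))))
          (inv_mem (Subgroup.mem_sup_right (zpow_mem (Subgroup.mem_zpowers b) j)))
    · refine ⟨a, done' a (Subgroup.mem_sup_right (Subgroup.mem_zpowers a)) ?_⟩
      refine key b j _ (le_sup_left.trans le_sup_left) ?_ hj'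
      rw [show b ^ j = (a ^ i)⁻¹ * (f⁻¹ * g) by rw [hj]; group]
      exact mul_mem (inv_mem (Subgroup.mem_sup_right (zpow_mem (Subgroup.mem_zpowers a) i)))
        (Subgroup.mem_sup_left (mul_mem (Subgroup.mem_sup_left (inv_mem hf))
          (Subgroup.mem_sup_right (Subgroup.mem_zpowers g))))
  refine isCyclic_iff_exists_zpowers_eq_top.2 ⟨QuotientGroup.mk' _ h, ?_⟩
  rw [← MonoidHom.map_zpowers, ← top_le_iff,
    ← Subgroup.map_top_of_surjective _ (QuotientGroup.mk'_surjective (Subgroup.zpowers g)), ← hh,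
    Subgroup.map_sup, QuotientGroup.map_mk'_self, bot_sup_eq]

/-- A group is metacyclic if it is so modulo a normal abelian subgroup of p-th powers which all
p-th powers centralize. -/
theorem isMetacyclic_lift [Finite G] [hp : Fact p.Prime] (h2 : p ≠ 2) (hG : IsPGroup p G)
    (E : Subgroup G) [E.Normal] (hE : ∀ x ∈ E, ∀ y ∈ E, x * y = y * x)
    (hroot : ∀ e ∈ E, ∃ t : G, t ^ p = e) (hcent : ∀ g : G, ∀ e ∈ E, g ^ p * e = e * g ^ p)
    (hQ : Cfsg.IsMetacyclic (G ⧸ E)) : Cfsg.IsMetacyclic G := by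
  classical
  obtain ⟨N, hNn, hNc, hQc⟩ := hQ
  set q := QuotientGroup.mk' E
  have hQp := hG.to_quotient E
  obtain ⟨a'', ha''⟩ := isCyclic_iff_exists_zpowers_eq_top.1 hNc
  obtain ⟨a', ha'⟩ : ∃ a' : G ⧸ E, Subgroup.zpowers a' = N := ⟨a'', by
    rw [← Subgroup.coe_subtype, ← MonoidHom.map_zpowers, ha'', ← MonoidHom.range_eq_map,
      Subgroup.range_subtype]⟩
  obtain ⟨b', hb'⟩ := isCyclic_iff_exists_zpowers_eq_top.1 hQc
  obtain ⟨a, rfl⟩ := QuotientGroup.mk'_surjective E a'
  obtain ⟨b'', rfl⟩ := QuotientGroup.mk'_surjective N b'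
  obtain ⟨b, rfl⟩ := QuotientGroup.mk'_surjective E b''
  have hgenQ : N ⊔ Subgroup.zpowers (q b) = ⊤ := by
    rw [← top_le_iff]
    intro x _
    obtain ⟨i, hi⟩ := Subgroup.mem_zpowers_iff.1
      (hb' ▸ Subgroup.mem_top (QuotientGroup.mk' N x) : QuotientGroup.mk' N x ∈ _)
    rw [← map_zpow] at hi
    obtain ⟨n, hn, rfl⟩ := (QuotientGroup.mk'_eq_mk' (N := N)).1 hi
    exact mul_mem (Subgroup.mem_sup_right (zpow_mem (Subgroup.mem_zpowers _) i))
      (Subgroup.mem_sup_left hn)
  have hgen : Subgroup.closure ({a, b} : Set G) = ⊤ := by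
    apply frattini_nongenerating
    have hEF : E ≤ frattini G := fun e he => by
      obtain ⟨t, rfl⟩ := hroot e he
      exact PGroups.pow_mem_frattini hG t
    rw [← top_le_iff]
    refine le_trans ?_ (sup_le_sup le_rfl hEF)
    intro x _
    have hx : q x ∈ (Subgroup.closure ({a, b} : Set G)).map q := by
      have : N ⊔ Subgroup.zpowers (q b) ≤ (Subgroup.closure ({a, b} : Set G)).map q := by
        rw [← ha', sup_le_iff, Subgroup.zpowers_le, Subgroup.zpowers_le]
        exact ⟨Subgroup.mem_map_of_mem q (Subgroup.subset_closure (Or.inl rfl)),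
          Subgroup.mem_map_of_mem q (Subgroup.subset_closure (Or.inr rfl))⟩
      exact this (hgenQ ▸ Subgroup.mem_top _)
    obtain ⟨y, hy, hyx⟩ := hx
    obtain ⟨e, he, rfl⟩ := (QuotientGroup.mk'_eq_mk' (N := E)).1 hyx
    exact mul_mem (Subgroup.mem_sup_left hy) (Subgroup.mem_sup_right he)
  have hcQ : (commutator G).map q ≤ Subgroup.zpowers (q a ^ p) := by
    have hmap : (commutator G).map q = commutator (G ⧸ E) := by
      rw [commutator_def, Subgroup.map_commutator,
        Subgroup.map_top_of_surjective q (QuotientGroup.mk'_surjective E), commutator_def]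
    rw [hmap]
    have hle : commutator (G ⧸ E) ≤ Subgroup.zpowers (q a) := by
      rw [ha', commutator_def, Subgroup.commutator_le]
      intro x _ y _
      rw [← QuotientGroup.eq_one_iff]
      show QuotientGroup.mk' N ⁅x, y⁆ = 1
      rw [map_commutatorElement, commutatorElement_eq_one_iff_mul_comm]
      let := IsCyclic.commGroup (α := (G ⧸ E) ⧸ N)
      exact mul_comm _ _
    by_cases heq : commutator (G ⧸ E) = Subgroup.zpowers (q a)
    · have htop : Subgroup.zpowers (q b) = ⊤ := by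
        apply frattini_nongenerating
        rw [← top_le_iff, ← hgenQ, ← ha']
        refine sup_le ((heq ▸ PGroups.commutator_le_frattini hQp : Subgroup.zpowers (q a) ≤ _).trans
          le_sup_right) le_sup_left
      have : IsCyclic (G ⧸ E) := isCyclic_iff_exists_zpowers_eq_top.2 ⟨_, htop⟩
      let := IsCyclic.commGroup (α := G ⧸ E)
      refine le_trans ?_ bot_le
      rw [commutator_def, Subgroup.commutator_le]
      intro x _ y _
      rw [Subgroup.mem_bot, commutatorElement_eq_one_iff_mul_comm]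
      exact mul_comm _ _
    · exact mem_zpowers_pow_of_proper hQp hle heq
  have hform : ∀ k ∈ commutator G, ∃ i : ℤ, ∃ e ∈ E, k = (a ^ p) ^ i * e := by
    intro k hk
    obtain ⟨i, hi⟩ := Subgroup.mem_zpowers_iff.1 (hcQ (Subgroup.mem_map_of_mem q hk))
    rw [← map_pow, ← map_zpow] at hi
    obtain ⟨e, he, hk'⟩ := (QuotientGroup.mk'_eq_mk' (N := E)).1 hi
    exact ⟨i, e, he, hk'.symm⟩
  refine isMetacyclic_of_two_gen h2 hG hgen ?_ ?_
  · intro x hx y hy
    obtain ⟨i, e, he, rfl⟩ := hform x hx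
    obtain ⟨j, f, hf, rfl⟩ := hform y hy
    have c1 : ∀ k : ℤ, ∀ e ∈ E, Commute ((a ^ p) ^ k) e := fun k e he =>
      Commute.zpow_left (hcent a e he) k
    have c2 : Commute e f := hE e he f hf
    exact ((((Commute.refl (a ^ p)).zpow_zpow i j).mul_right (c1 i f hf)).mul_left
      ((c1 j e he).symm.mul_right c2)).eq
  · intro k hk
    obtain ⟨i, e, he, rfl⟩ := hform k hk
    exact mul_mem (zpow_mem (Subgroup.subset_closure (show a ^ p ∈ {g | ∃ y : G, y ^ p = g} from ⟨a, rfl⟩)) i)
      (Subgroup.subset_closure (hroot e he))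

end CfsgLib.RankTwoP
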