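/-
p-groups (p odd) with a normal elementary abelian subgroup of order p^2 containing every element of
order p of its centralizer: the elements whose p-th power lies in it, and the case of a central one.
-/
import Cfsg.Agent.Lib.RankTwoP.Metacyclic

set_option autoImplicit false
set_option linter.style.haveILetI false

open scoped commutatorElement

namespace CfsgLib.RankTwoP

universe u

variable {p : ℕ}

/-- If all elements of order `p` are central then commutators with an element of order dividing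
`p ^ 2` have order dividing `p`. -/
theorem commutator_pow_eq_one [hp : Fact p.Prime] (h2 : p ≠ 2) (n : ℕ) :
    ∀ {H : Type u} [Group H] [Finite H], Nat.card H = n → IsPGroup p H →
      (∀ g : H, g ^ p = 1 → g ∈ Subgroup.center H) →
      ∀ v : H, v ^ p ^ 2 = 1 → ∀ c : H, ⁅v, c⁆ ^ p = 1 := by
  induction n using Nat.strong_induction_on with
  | _ n ih =>
    intro H _ _ hn hH hcen v hv c
    by_cases htop : Subgroup.zpowers v ⊔ frattini H = ⊤
    · have hvt := frattini_nongenerating htop
      have hc : c ∈ Subgroup.zpowers v := hvt ▸ Subgroup.mem_top c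
      obtain ⟨i, rfl⟩ := Subgroup.mem_zpowers_iff.1 hc
      rw [commutatorElement_eq_one_iff_mul_comm.2 ((Commute.refl v).zpow_right i).eq, one_pow]
    set K := Subgroup.zpowers v ⊔ frattini H with hK
    have hlt : Nat.card K < n := by
      rcases (Subgroup.card_le_card_group K).lt_or_eq with h | h
      · exact hn ▸ h
      · exact absurd (Subgroup.card_eq_iff_eq_top K |>.1 h) htop
    set k := ⁅v⁻¹, c⁆ with hk
    have hvK : v ∈ K := Subgroup.mem_sup_left (Subgroup.mem_zpowers v)
    have hkK : k ∈ K := Subgroup.mem_sup_right (PGroups.commutatorElement_mem_frattini hH _ _)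
    have hconj : c * v * c⁻¹ = v * k := by rw [hk, commutatorElement_def]; group
    have hp2 : ∀ w : H, w ^ p ^ 2 = 1 → w ^ p ∈ Subgroup.center H := fun w hw =>
      hcen _ (by rw [← pow_mul, ← pow_two, hw])
    have hIH := ih _ hlt (H := K) rfl (hH.to_subgroup K) (fun g hg => Subgroup.mem_center_iff.2
      fun y => Subtype.ext (Subgroup.mem_center_iff.1 (hcen g (congrArg Subtype.val hg)) y))
      ⟨v, hvK⟩ (Subtype.ext hv) ⟨k, hkK⟩
    have hkv : ⁅k, v⁆ ^ p = 1 := by
      have h1 : ⁅v, k⁆ ^ p = 1 := congrArg Subtype.val hIH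
      rw [← commutatorElement_inv, inv_pow, h1, inv_one]
    have hpow : (v * k) ^ p = v ^ p * k ^ p :=
      PGroups.mul_pow_of_central_odd (hcen _ hkv) (PGroups.odd_prime h2) hkv
    rw [← hconj, conj_pow, Subgroup.mem_center_iff.1 (hp2 v hv) c, mul_inv_cancel_right] at hpow
    have hkp : k ^ p = 1 := mul_eq_left.1 hpow.symm
    have hkey : ⁅v, c⁆ = (MulAut.conj v) k⁻¹ := by
      rw [MulAut.conj_apply, hk, commutatorElement_def, commutatorElement_def]; group
    rw [hkey, ← map_pow, inv_pow, hkp, inv_one, map_one]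

variable {G : Type u} [Group G]

/-- A normal elementary abelian subgroup `E` of order `p ^ 2` containing every element of order `p`
of its centralizer `C`. -/
structure Base (p : ℕ) (E C : Subgroup G) : Prop where
  normal : E.Normal
  comm : ∀ a ∈ E, ∀ b ∈ E, a * b = b * a
  exp : ∀ a ∈ E, a ^ p = 1
  card : Nat.card E = p ^ 2
  cent : C = Subgroup.centralizer (E : Set G)
  small : ∀ g ∈ C, g ^ p = 1 → g ∈ E

namespace Base

variable {E C : Subgroup G}

theorem le (h : Base p E C) : E ≤ C := by
  rw [h.cent]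
  exact fun e he => Subgroup.mem_centralizer_iff.2 fun a ha => h.comm a ha e he

theorem commute (h : Base p E C) {e g : G} (he : e ∈ E) (hg : g ∈ C) : Commute e g :=
  Subgroup.mem_centralizer_iff.1 (h.cent ▸ hg) e he

theorem normalC (h : Base p E C) : C.Normal := by
  have := h.normal
  rw [h.cent]
  infer_instance

theorem commutator_mem [Finite G] [hp : Fact p.Prime] (h : Base p E C) (h2 : p ≠ 2)
    (hG : IsPGroup p G) {v c : G} (hv : v ∈ C) (hvp : v ^ p ∈ E) (hc : c ∈ C) : ⁅v, c⁆ ∈ E := by
  refine h.small _ (mul_mem (mul_mem (mul_mem hv hc) (inv_mem hv)) (inv_mem hc)) ?_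
  have := commutator_pow_eq_one h2 _ (H := C) rfl (hG.to_subgroup C) (fun g hg =>
    Subgroup.mem_center_iff.2 fun y => Subtype.ext
      (h.commute (h.small g g.2 (congrArg Subtype.val hg)) y.2).eq.symm) ⟨v, hv⟩
    (Subtype.ext (by
      rw [SubgroupClass.coe_pow, pow_two, pow_mul]
      exact h.exp _ hvp)) ⟨c, hc⟩
  exact congrArg Subtype.val this

theorem mul_pow [Finite G] [hp : Fact p.Prime] (h : Base p E C) (h2 : p ≠ 2)
    (hG : IsPGroup p G) {u v : G} (hu : u ∈ C) (hv : v ∈ C) (hvp : v ^ p ∈ E) :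
    (u * v) ^ p = u ^ p * v ^ p := by
  have hm := h.commutator_mem h2 hG hv hvp hu
  rw [PGroups.mul_pow_of_commute (h.commute hm hu) (h.commute hm hv),
    pow_choose_two_eq_one (PGroups.odd_prime h2) (h.exp _ hm), mul_one]

/-- The subgroup of the elements of `C` whose p-th power lies in `E`. -/
noncomputable def root [Finite G] [Fact p.Prime] (h : Base p E C) (h2 : p ≠ 2)
    (hG : IsPGroup p G) : Subgroup G where
  carrier := {v | v ∈ C ∧ v ^ p ∈ E}
  one_mem' := ⟨one_mem C, by rw [one_pow]; exact one_mem E⟩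
  mul_mem' := by
    rintro u v ⟨hu, hu'⟩ ⟨hv, hv'⟩
    exact ⟨mul_mem hu hv, by rw [h.mul_pow h2 hG hu hv hv']; exact mul_mem hu' hv'⟩
  inv_mem' := by
    rintro u ⟨hu, hu'⟩
    exact ⟨inv_mem hu, by rw [inv_pow]; exact inv_mem hu'⟩

variable [Finite G] [hp : Fact p.Prime] (h : Base p E C) (h2 : p ≠ 2) (hG : IsPGroup p G)

theorem mem_root {v : G} : v ∈ h.root h2 hG ↔ v ∈ C ∧ v ^ p ∈ E := Iff.rfl

theorem le_root : E ≤ h.root h2 hG := fun e he =>
  ⟨h.le he, by rw [h.exp e he]; exact one_mem E⟩

theorem root_normal : (h.root h2 hG).Normal := ⟨fun v hv g =>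
  ⟨h.normalC.conj_mem v hv.1 g, by rw [conj_pow]; exact h.normal.conj_mem _ hv.2 g⟩⟩

/-- The p-th power map on the root subgroup. -/
noncomputable def powHom : h.root h2 hG →* E where
  toFun v := ⟨(v : G) ^ p, v.2.2⟩
  map_one' := Subtype.ext (one_pow p)
  map_mul' u v := Subtype.ext (h.mul_pow h2 hG u.2.1 v.2.1 v.2.2)

theorem ker_powHom : (h.powHom h2 hG).ker = E.subgroupOf (h.root h2 hG) := by
  ext v
  rw [MonoidHom.mem_ker, Subgroup.mem_subgroupOf]
  exact ⟨fun hv => h.small v v.2.1 (congrArg Subtype.val hv), fun hv => Subtype.ext (h.exp _ hv)⟩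

theorem card_root : Nat.card (h.root h2 hG) = p ^ 2 * Nat.card (h.powHom h2 hG).range := by
  have h1 := (h.powHom h2 hG).ker.card_mul_index
  rw [Subgroup.index_ker, h.ker_powHom h2 hG,
    Nat.card_congr (Subgroup.subgroupOfEquivOfLe (h.le_root h2 hG)).toEquiv, h.card] at h1
  exact h1.symm

theorem card_root_le : Nat.card (h.root h2 hG) ≤ p ^ 4 := by
  rw [h.card_root h2 hG, show p ^ 4 = p ^ 2 * p ^ 2 by ring]
  exact Nat.mul_le_mul_left _ ((Subgroup.card_le_card_group _).trans_eq h.card)

include h h2 hG in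
/-- Either every element of `E` is the p-th power of an element of the root subgroup or `C / E` is
cyclic. -/
theorem root_surjective_or_cyclic :
    (∀ e ∈ E, ∃ t ∈ C, t ^ p = e) ∨ ∃ c ∈ C, C = E ⊔ Subgroup.zpowers c := by
  by_cases hs : ∀ e ∈ E, ∃ t ∈ C, t ^ p = e
  · exact Or.inl hs
  right
  have := h.normal
  have hlt : Nat.card (h.powHom h2 hG).range ∣ p := by
    have hd : Nat.card (h.powHom h2 hG).range ∣ p ^ 2 :=
      h.card ▸ Subgroup.card_subgroup_dvd_card _
    obtain ⟨k, hk, hk'⟩ := (Nat.dvd_prime_pow hp.out).1 hd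
    rw [hk']
    refine (pow_dvd_pow p (?_ : k ≤ 1)).trans (by rw [pow_one])
    by_contra hk2
    apply hs
    intro e he
    have htop : (h.powHom h2 hG).range = ⊤ := Subgroup.eq_top_of_card_eq _ (by
      rw [hk', h.card, show k = 2 by omega])
    obtain ⟨t, ht⟩ := (htop ▸ Subgroup.mem_top (⟨e, he⟩ : E) : _ ∈ (h.powHom h2 hG).range)
    exact ⟨t, t.2.1, congrArg Subtype.val ht⟩
  set E' := E.subgroupOf C
  have hu : TwoGroups.UniqueOrderP p (C ⧸ E') := by
    intro a b ha hb
    obtain ⟨u, rfl⟩ := QuotientGroup.mk'_surjective E' a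
    obtain ⟨v, rfl⟩ := QuotientGroup.mk'_surjective E' b
    have key : ∀ w : C, orderOf (QuotientGroup.mk' E' w) = p → (w : G) ∈ h.root h2 hG ∧
        ((w : G) ^ p ≠ 1) := fun w hw => by
      have h1 : QuotientGroup.mk' E' (w ^ p) = 1 := by
        rw [map_pow, ← hw, pow_orderOf_eq_one]
      refine ⟨⟨w.2, ?_⟩, fun hw1 => ?_⟩
      · simpa [E', Subgroup.mem_subgroupOf] using (QuotientGroup.eq_one_iff _).1 h1
      · have h0 : QuotientGroup.mk' E' w = 1 :=
          (QuotientGroup.eq_one_iff w).2 (h.small w w.2 hw1)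
        rw [h0, orderOf_one] at hw
        exact hp.out.ne_one hw.symm
    obtain ⟨hur, hu1⟩ := key u ha
    obtain ⟨hvr, -⟩ := key v hb
    have hrange : Subgroup.zpowers (h.powHom h2 hG ⟨u, hur⟩) = (h.powHom h2 hG).range := by
      refine Subgroup.eq_of_le_of_card_ge (Subgroup.zpowers_le.2 ⟨_, rfl⟩) ?_
      refine (Nat.le_of_dvd hp.out.pos hlt).trans_eq ?_
      rw [Nat.card_zpowers, orderOf_eq_prime (Subtype.ext (h.exp _ hur.2))
        (fun he => hu1 (congrArg Subtype.val he))]
    obtain ⟨i, hi⟩ := Subgroup.mem_zpowers_iff.1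
      (hrange ▸ (⟨_, rfl⟩ : h.powHom h2 hG ⟨v, hvr⟩ ∈ (h.powHom h2 hG).range) :
        h.powHom h2 hG ⟨v, hvr⟩ ∈ Subgroup.zpowers (h.powHom h2 hG ⟨u, hur⟩))
    refine Subgroup.mem_zpowers_iff.2 ⟨i, ?_⟩
    rw [← map_zpow]
    refine (QuotientGroup.mk'_eq_mk' (N := E')).2 ⟨(u ^ i)⁻¹ * v, ?_, mul_inv_cancel_left _ _⟩
    have h1 : ((⟨u, hur⟩ : h.root h2 hG) ^ i)⁻¹ * ⟨v, hvr⟩ ∈ (h.powHom h2 hG).ker := by
      rw [MonoidHom.mem_ker, map_mul, map_inv, map_zpow, hi, inv_mul_cancel]
    rw [h.ker_powHom h2 hG, Subgroup.mem_subgroupOf] at h1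
    rw [Subgroup.mem_subgroupOf]
    simpa using h1
  rcases TwoGroups.isCyclic_or_quaternion ((hG.to_subgroup C).to_quotient E') hu with hc | ⟨hc, -⟩
  swap
  · exact absurd hc h2
  obtain ⟨c', hc'⟩ := isCyclic_iff_exists_zpowers_eq_top.1 hc
  obtain ⟨c, rfl⟩ := QuotientGroup.mk'_surjective E' c'
  refine ⟨c, c.2, le_antisymm (fun x hx => ?_) (sup_le h.le (Subgroup.zpowers_le.2 c.2))⟩
  obtain ⟨i, hi⟩ := Subgroup.mem_zpowers_iff.1
    (hc' ▸ Subgroup.mem_top (QuotientGroup.mk' E' ⟨x, hx⟩) :
      QuotientGroup.mk' E' ⟨x, hx⟩ ∈ Subgroup.zpowers _)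
  rw [← map_zpow] at hi
  obtain ⟨e, he, hx'⟩ := (QuotientGroup.mk'_eq_mk' (N := E')).1 hi
  have hx'' : (c : G) ^ i * (e : G) = x := congrArg Subtype.val hx'
  rw [← hx'']
  exact mul_mem (Subgroup.mem_sup_right (zpow_mem (Subgroup.mem_zpowers _) i))
    (Subgroup.mem_sup_left he)

theorem card_map_root (hs : ∀ e ∈ E, ∃ t ∈ C, t ^ p = e) :
    have := h.normal
    Nat.card ((h.root h2 hG).map (QuotientGroup.mk' E)) = p ^ 2 := by
  intro _
  have hr : Nat.card (h.powHom h2 hG).range = p ^ 2 := by
    rw [MonoidHom.range_eq_top.2, Subgroup.card_top, h.card]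
    rintro ⟨e, he⟩
    obtain ⟨t, ht, rfl⟩ := hs e he
    exact ⟨⟨t, ht, he⟩, rfl⟩
  have h1 := Subgroup.relIndex_mul_relIndex ⊥ E (h.root h2 hG) bot_le (h.le_root h2 hG)
  rw [Subgroup.relIndex_bot_left, Subgroup.relIndex_bot_left, h.card, h.card_root h2 hG, hr] at h1
  rw [← Subgroup.relIndex_bot_left, ← Subgroup.relIndex_comap, MonoidHom.comap_bot,
    QuotientGroup.ker_mk']
  exact Nat.eq_of_mul_eq_mul_left (pow_pos hp.out.pos 2) h1

end Base

/-- A p-group whose elements of order `p` lie in a central subgroup of order `p ^ 2` is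
metacyclic. -/
theorem isMetacyclic_of_central [hp : Fact p.Prime] (h2 : p ≠ 2) (n : ℕ) :
    ∀ {G : Type u} [Group G] [Finite G], Nat.card G = n → IsPGroup p G →
      ∀ E : Subgroup G, Base p E ⊤ → Cfsg.IsMetacyclic G := by
  induction n using Nat.strong_induction_on with
  | _ n ih =>
    intro G _ _ hn hG E h
    have := h.normal
    set q := QuotientGroup.mk' E
    rcases h.root_surjective_or_cyclic h2 hG with hs | ⟨c, -, hc⟩
    · set F := (h.root h2 hG).map q with hF
      have hFn : F.Normal := (h.root_normal h2 hG).map q (QuotientGroup.mk'_surjective E)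
      have hcen : Subgroup.centralizer (F : Set (G ⧸ E)) = ⊤ := by
        rw [eq_top_iff]
        intro y _
        obtain ⟨y, rfl⟩ := QuotientGroup.mk'_surjective E y
        rw [Subgroup.mem_centralizer_iff]
        rintro _ ⟨v, hv, rfl⟩
        rw [← commutatorElement_eq_one_iff_mul_comm, ← map_commutatorElement]
        exact (QuotientGroup.eq_one_iff _).2
          (h.commutator_mem h2 hG hv.1 hv.2 (Subgroup.mem_top y))
      have hbase : Base p F ⊤ := by
        refine ⟨hFn, fun a ha b _ => ?_, ?_, h.card_map_root h2 hG hs, hcen.symm, ?_⟩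
        · exact (Subgroup.mem_centralizer_iff.1 (hcen.symm ▸ Subgroup.mem_top b) a ha)
        · rintro _ ⟨v, hv, rfl⟩
          rw [← map_pow]
          exact (QuotientGroup.eq_one_iff _).2 hv.2
        · intro g _ hg
          obtain ⟨g, rfl⟩ := QuotientGroup.mk'_surjective E g
          rw [← map_pow] at hg
          exact ⟨g, ⟨Subgroup.mem_top g, (QuotientGroup.eq_one_iff _).1 hg⟩, rfl⟩
      have hlt : Nat.card (G ⧸ E) < n := by
        have h1 := E.card_eq_card_quotient_mul_card_subgroup
        rw [h.card, hn] at h1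
        have h4 : 4 ≤ p ^ 2 := by have := hp.out.two_le; nlinarith
        have := Nat.card_pos (α := G ⧸ E)
        nlinarith
      refine isMetacyclic_lift h2 hG E h.comm (fun e he => ?_) (fun g e he => ?_)
        (ih _ hlt rfl (hG.to_quotient E) F hbase)
      · obtain ⟨t, -, ht⟩ := hs e he
        exact ⟨t, ht⟩
      · exact (h.commute he (Subgroup.mem_top _)).eq.symm
    · obtain ⟨d, hd, hcd⟩ : ∃ d, (∃ e ∈ E, e ≠ 1 ∧ e ∈ Subgroup.zpowers d) ∧
          E ⊔ Subgroup.zpowers d = ⊤ := by
        rcases eq_or_ne c 1 with rfl | hc1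
        · obtain ⟨e, he, he1⟩ := (Subgroup.ne_bot_iff_exists_ne_one (H := E)).1 (fun hb => by
            have := h.card
            rw [hb, Subgroup.card_bot] at this
            exact (Nat.one_lt_pow two_ne_zero hp.out.one_lt).ne this) |> fun ⟨e, he⟩ =>
              (⟨e, e.2, fun h => he (Subtype.ext h)⟩ : ∃ e, e ∈ E ∧ e ≠ 1)
          refine ⟨e, ⟨e, he, he1, Subgroup.mem_zpowers e⟩, ?_⟩
          rw [← top_le_iff, hc]
          exact sup_le le_sup_left (by rw [Subgroup.zpowers_one_eq_bot]; exact bot_le)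
        · obtain ⟨k, hk⟩ := IsPGroup.iff_orderOf.1 hG c
          rcases k with _ | k
          · exact absurd (orderOf_eq_one_iff.1 (by simpa using hk)) hc1
          have ho : orderOf (c ^ p ^ k) = p := by
            rw [orderOf_pow_of_dvd (pow_ne_zero _ hp.out.ne_zero)
              (hk ▸ pow_dvd_pow p k.le_succ), hk, pow_succ,
              Nat.mul_div_cancel_left _ (pow_pos hp.out.pos k)]
          refine ⟨c, ⟨c ^ p ^ k, h.small _ (Subgroup.mem_top _) (by
            rw [← pow_mul, ← pow_succ, ← hk, pow_orderOf_eq_one]), fun he => ?_, pow_mem (Subgroup.mem_zpowers c) _⟩,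
            hc.symm⟩
          rw [he, orderOf_one] at ho
          exact hp.out.ne_one ho.symm
      have hn' : (Subgroup.zpowers d).Normal := by
        have : Subgroup.zpowers d ≤ Subgroup.center G := by
          rw [Subgroup.zpowers_le, Subgroup.mem_center_iff]
          intro x
          have : E ⊔ Subgroup.zpowers d ≤ Subgroup.centralizer {d} := sup_le
            (fun e he => Subgroup.mem_centralizer_singleton_iff.2
              (h.commute he (Subgroup.mem_top d)).eq)
            (Subgroup.zpowers_le.2 (Subgroup.mem_centralizer_singleton_iff.2 rfl))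
          exact Subgroup.mem_centralizer_singleton_iff.1 (this (hcd ▸ Subgroup.mem_top x))
        exact ⟨fun y hy x => by
          rw [Subgroup.mem_center_iff.1 (this hy) x, mul_inv_cancel_right]; exact hy⟩
      refine ⟨Subgroup.zpowers d, hn', inferInstance, ?_⟩
      set r := QuotientGroup.mk' (Subgroup.zpowers d)
      set M := E.map r with hM
      have hMtop : M = ⊤ := by
        rw [← top_le_iff, ← Subgroup.map_top_of_surjective r
          (QuotientGroup.mk'_surjective _), ← hcd, Subgroup.map_sup]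
        rw [show (Subgroup.zpowers d).map r = ⊥ by rw [Subgroup.map_eq_bot_iff, QuotientGroup.ker_mk'],
          sup_bot_eq]
      have hdvd : Nat.card M ∣ p ^ 2 := h.card ▸ Subgroup.card_map_dvd _ r
      obtain ⟨k, hk, hk'⟩ := (Nat.dvd_prime_pow hp.out).1 hdvd
      obtain ⟨e, he, he1, hed⟩ := hd
      have hk2 : k ≠ 2 := fun hk2 => by
        have hinj : Function.Injective (r.subgroupMap E) := by
          have := Nat.bijective_iff_surjective_and_card (r.subgroupMap E) |>.2
            ⟨r.subgroupMap_surjective E, by rw [h.card, ← hM, hk', hk2]⟩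
          exact this.1
        have : (⟨e, he⟩ : E) = 1 := hinj (Subtype.ext (by
          show r e = r 1
          rw [map_one]
          exact (QuotientGroup.eq_one_iff e).2 hed))
        exact he1 (congrArg Subtype.val this)
      rw [hMtop, Subgroup.card_top] at hk'
      interval_cases k
      · rw [pow_zero] at hk'
        have := (Nat.card_eq_one_iff_unique.1 hk').1
        exact isCyclic_of_subsingleton
      · exact isCyclic_of_prime_card (by rw [hk', pow_one])
      · exact absurd rfl hk2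

end CfsgLib.RankTwoP
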