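import Cfsg.Agent.S3888
import Cfsg.Agent.Lib.BGAppendix.OmegaSmall
import Cfsg.Agent.Lib.PGroups.Frattini

/-!
Irreducible sections of `p`-groups of rank at most two, `p` odd, have order at most `p ^ 2`.
-/

set_option autoImplicit false
set_option linter.style.haveILetI false

namespace CfsgLib.RankTwoP

open Cfsg
open scoped commutatorElement

variable {T : Type*} [Group T] [Finite T] {p : ℕ} [hp : Fact p.Prime]

/-- An elementary abelian quotient generated by two elements has order at most `p ^ 2`. -/
theorem index_le_sq (hT : IsPGroup p T) (M : Subgroup T) [M.Normal] (hΦ : frattini T ≤ M)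
    (a b : T) (h : M ⊔ Subgroup.closure ({a, b} : Set T) = ⊤) : M.index ≤ p ^ 2 := by
  set q := QuotientGroup.mk' M
  have hcomm : ∀ x y : T ⧸ M, x * y = y * x := by
    intro x y
    obtain ⟨x, rfl⟩ := QuotientGroup.mk'_surjective M x
    obtain ⟨y, rfl⟩ := QuotientGroup.mk'_surjective M y
    rw [← commutatorElement_eq_one_iff_mul_comm, ← map_commutatorElement]
    exact (QuotientGroup.eq_one_iff _).2 (hΦ (PGroups.commutator_le_frattini hT
      (Subgroup.commutator_mem_commutator (Subgroup.mem_top x) (Subgroup.mem_top y))))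
  have hexp : ∀ x : T, orderOf (q x) ≤ p := fun x => Nat.le_of_dvd hp.out.pos
    (orderOf_dvd_of_pow_eq_one (by
      rw [← map_pow]
      exact (QuotientGroup.eq_one_iff _).2 (hΦ (PGroups.pow_mem_frattini hT x))))
  set A := Subgroup.zpowers (q a)
  set B := Subgroup.zpowers (q b)
  have htop : A ⊔ B = ⊤ := by
    refine top_le_iff.1 ?_
    rw [← Subgroup.map_top_of_surjective q (QuotientGroup.mk'_surjective M), ← h, Subgroup.map_sup,
      QuotientGroup.map_mk'_self, bot_sup_eq, MonoidHom.map_closure, Subgroup.closure_le]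
    rintro _ ⟨x, hx, rfl⟩
    rcases hx with rfl | rfl
    · exact Subgroup.mem_sup_left (Subgroup.mem_zpowers _)
    · exact Subgroup.mem_sup_right (Subgroup.mem_zpowers _)
  have hsurj : Function.Surjective (fun w : A × B => (w.1 : T ⧸ M) * w.2) := by
    intro x
    haveI : A.Normal := ⟨fun m hm g => by rwa [hcomm g m, mul_inv_cancel_right]⟩
    obtain ⟨u, hu, v, hv, rfl⟩ := Subgroup.mem_sup_of_normal_left.1 (htop ▸ Subgroup.mem_top x)
    exact ⟨(⟨u, hu⟩, ⟨v, hv⟩), rfl⟩
  rw [Subgroup.index_eq_card]
  refine (Nat.card_le_card_of_surjective _ hsurj).trans ?_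
  rw [Nat.card_prod, Nat.card_zpowers, Nat.card_zpowers, pow_two]
  exact Nat.mul_le_mul (hexp a) (hexp b)

/-- A nilpotent group of maximal class has derived subgroup of index at most `p ^ 2`. -/
theorem index_commutator_le (hT : IsPGroup p T) {n : ℕ} (hn : Nat.card T = p ^ n) (h2 : 2 ≤ n)
    (hcl : (⊤ : Subgroup T).lowerCentralSeries (n - 2) ≠ ⊥) : (commutator T).index ≤ p ^ 2 := by
  have hnil := hT.isNilpotent
  rcases Nat.lt_or_ge n 3 with h3 | h3
  · calc (commutator T).index ≤ Nat.card T :=
          Nat.le_of_dvd Nat.card_pos (Subgroup.index_dvd_card _)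
      _ = p ^ 2 := by rw [hn, show n = 2 by omega]
  set L := (⊤ : Subgroup T).lowerCentralSeries
  have hstrict : ∀ i ≤ n - 2, L i ≠ ⊥ → ∀ j < i, L (j + 1) < L j := by
    intro i hi hne j hj
    refine lt_of_le_of_ne ((⊤ : Subgroup T).lowerCentralSeries_antitone (Nat.le_succ j)) fun he => hne ?_
    obtain ⟨m, hm⟩ := Subgroup.nilpotent_iff_lowerCentralSeries.1 hnil
    have hstab : ∀ k, L (j + k) = L j := fun k => by
      induction k with
      | zero => rfl
      | succ k ih =>
        show ⁅L (j + k), ⊤⁆ = L j
        rw [ih]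
        exact he
    have hj0 : L j = ⊥ := le_bot_iff.1 (by
      rw [← hstab m, ← hm]; exact (⊤ : Subgroup T).lowerCentralSeries_antitone (Nat.le_add_left m j))
    exact le_bot_iff.1 (((⊤ : Subgroup T).lowerCentralSeries_antitone hj.le).trans hj0.le)
  have hgrow : ∀ k ≤ n - 3, p ^ (k + 1) ≤ Nat.card (L (n - 2 - k)) := by
    intro k hk
    induction k with
    | zero =>
      obtain ⟨e, he⟩ := IsPGroup.iff_card.1 (hT.to_subgroup (L (n - 2)))
      rw [Nat.sub_zero, he]
      refine Nat.pow_le_pow_right hp.out.pos (Nat.one_le_iff_ne_zero.2 fun h0 => hcl ?_)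
      rw [h0, pow_zero] at he
      exact Subgroup.eq_bot_of_card_eq _ he
    | succ k ih =>
      have h := PGroups.prime_mul_card_le hT
        (hstrict (n - 2) le_rfl hcl (n - 2 - (k + 1)) (by omega))
      rw [show n - 2 - (k + 1) + 1 = n - 2 - k by omega] at h
      refine le_trans ?_ h
      rw [pow_succ' p (k + 1)]
      exact Nat.mul_le_mul_left p (ih (by omega))
  have h1 := hgrow (n - 3) le_rfl
  rw [show n - 2 - (n - 3) = 1 by omega] at h1
  have h4 := (commutator T).card_mul_index
  rw [hn, ← Subgroup.top_lowerCentralSeries_one] at h4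
  rw [← Subgroup.top_lowerCentralSeries_one]
  refine Nat.le_of_mul_le_mul_left ?_ (pow_pos hp.out.pos (n - 2))
  calc p ^ (n - 2) * (L 1).index ≤ Nat.card (L 1) * (L 1).index := by
        refine Nat.mul_le_mul_right _ ?_
        rwa [show n - 3 + 1 = n - 2 by omega] at h1
    _ = p ^ (n - 2) * p ^ 2 := by rw [h4, ← pow_add, show n - 2 + 2 = n by omega]

/-- An irreducible section at the top of a `p`-group of rank at most two. -/
theorem index_le_of_irreducible (h2 : p ≠ 2) (hT : IsPGroup p T) (hr : PRankLE p 2 T)
    (M : Subgroup T) [M.Normal] (hΦ : frattini T ≤ M)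
    (hΩ : Subgroup.closure {w : T | w ^ p = 1} ≤ M ∨ Subgroup.closure {w : T | w ^ p = 1} = ⊤) :
    M.index ≤ p ^ 2 := by
  obtain ⟨n, hn⟩ := IsPGroup.iff_card.1 hT
  have hD : ∀ x y : T, ⁅x, y⁆ ∈ M := fun x y => hΦ (PGroups.commutator_le_frattini hT
    (Subgroup.commutator_mem_commutator (Subgroup.mem_top x) (Subgroup.mem_top y)))
  have hgen : ∀ {x y z a b : T}, Subgroup.closure ({x, y, z} : Set T) = ⊤ →
      (∀ w ∈ ({x, y, z} : Set T), w ∈ M ⊔ Subgroup.closure ({a, b} : Set T)) → M.index ≤ p ^ 2 :=
    fun {x y z a b} hc hw => index_le_sq hT M hΦ a b (top_le_iff.1 (hc ▸ (Subgroup.closure_le _).2 hw))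
  rcases Cfsg.Agent.S3888.result h2 n hn hr with h | h | h | h
  · obtain ⟨N, hN, hNc, hQc⟩ := BGAppendix.isMetacyclic_quotient h M
    obtain ⟨u, hu⟩ := hNc.exists_generator
    obtain ⟨v, hv⟩ := hQc.exists_generator
    obtain ⟨a, ha⟩ := QuotientGroup.mk'_surjective M (u : T ⧸ M)
    obtain ⟨v', rfl⟩ := QuotientGroup.mk'_surjective N v
    obtain ⟨b, rfl⟩ := QuotientGroup.mk'_surjective M v'
    refine index_le_sq hT M hΦ a b (top_le_iff.1 fun t _ => ?_)
    obtain ⟨j, hj⟩ := Subgroup.mem_zpowers_iff.1 (hv (QuotientGroup.mk' N (QuotientGroup.mk' M t)))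
    have hmem : (QuotientGroup.mk' M b ^ j)⁻¹ * QuotientGroup.mk' M t ∈ N := by
      rw [← QuotientGroup.eq_one_iff]
      show QuotientGroup.mk' N _ = 1
      rw [map_mul, map_inv, map_zpow, hj, inv_mul_cancel]
    obtain ⟨i, hi⟩ := Subgroup.mem_zpowers_iff.1 (hu ⟨_, hmem⟩)
    have hi' : (u : T ⧸ M) ^ i = (QuotientGroup.mk' M b ^ j)⁻¹ * QuotientGroup.mk' M t := by
      simpa using congrArg Subtype.val hi
    have ht : t * (b ^ j * a ^ i)⁻¹ ∈ M := by
      rw [← QuotientGroup.eq_one_iff]
      show QuotientGroup.mk' M _ = 1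
      rw [map_mul, map_inv, map_mul, map_zpow, map_zpow, ha, hi', mul_inv_cancel_left,
        mul_inv_cancel]
    rw [show t = t * (b ^ j * a ^ i)⁻¹ * (b ^ j * a ^ i) by group]
    have ha' : a ∈ Subgroup.closure ({a, b} : Set T) := Subgroup.subset_closure (Or.inl rfl)
    have hb' : b ∈ Subgroup.closure ({a, b} : Set T) := Subgroup.subset_closure (Or.inr rfl)
    exact Subgroup.mul_mem_sup ht (mul_mem (zpow_mem hb' j) (zpow_mem ha' i))
  · obtain ⟨h3, x, y, z, hc, hx, hy, hz, hxz, hyz, hxy⟩ := h
    rcases hΩ with hΩ | hΩ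
    · refine hgen (a := z) (b := z) hc ?_
      rintro w (rfl | rfl | rfl)
      · exact Subgroup.mem_sup_left (hΩ (Subgroup.subset_closure hx))
      · exact Subgroup.mem_sup_left (hΩ (Subgroup.subset_closure hy))
      · exact Subgroup.mem_sup_right (Subgroup.subset_closure (Or.inl rfl))
    by_cases hn3 : n = 3
    · subst hn3
      rw [show (3 : ℕ) - 3 = 0 from rfl, pow_zero, pow_one] at hxy
      refine hgen (a := x) (b := y) hc ?_
      rintro w (rfl | rfl | rfl)
      · exact Subgroup.mem_sup_right (Subgroup.subset_closure (Or.inl rfl))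
      · exact Subgroup.mem_sup_right (Subgroup.subset_closure (Or.inr rfl))
      · refine Subgroup.mem_sup_left ?_
        have : w = ⁅y⁻¹, x⁻¹⁆ := by
          rw [commutatorElement_def, inv_inv, inv_inv, mul_assoc y⁻¹, mul_assoc y⁻¹, hxy]; group
        exact this ▸ hD _ _
    exfalso
    -- `T` is generated by elements of order `p` and has class two, hence exponent `p`
    have hzc : z ∈ Subgroup.center T := by
      have hle : Subgroup.closure ({x, y, z} : Set T) ≤ Subgroup.centralizer ({z} : Set T) := by
        rw [Subgroup.closure_le]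
        rintro w (rfl | rfl | rfl)
        · exact Subgroup.mem_centralizer_singleton_iff.2 hxz
        · exact Subgroup.mem_centralizer_singleton_iff.2 hyz
        · exact Subgroup.mem_centralizer_singleton_iff.2 rfl
      exact Subgroup.mem_center_iff.2 fun g =>
        Subgroup.mem_centralizer_singleton_iff.1 (hle (hc ▸ Subgroup.mem_top g))
    have hcl : ∀ g k : T, ⁅g, k⁆ ∈ Subgroup.center T := by
      set q := QuotientGroup.mk' (Subgroup.center T)
      have hqc : ∀ g k : T, Commute (q g) (q k) := by
        have hxy' : Commute (q x) (q y) := by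
          have := congrArg q hxy
          rw [map_mul q y, map_pow, show q z = 1 from (QuotientGroup.eq_one_iff z).2 hzc, one_pow,
            mul_one, map_mul, map_mul, map_inv] at this
          show q x * q y = q y * q x
          rw [mul_assoc, inv_mul_eq_iff_eq_mul] at this
          exact this.symm
        have hqz : q z = 1 := (QuotientGroup.eq_one_iff z).2 hzc
        have hgens : ∀ v ∈ ({x, y, z} : Set T), ∀ w ∈ ({x, y, z} : Set T), Commute (q v) (q w) := by
          rintro v (rfl | rfl | rfl) w (rfl | rfl | rfl) <;>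
            first
            | exact Commute.refl _
            | exact hxy'
            | exact hxy'.symm
            | (rw [hqz]; exact Commute.one_right _)
            | (rw [hqz]; exact Commute.one_left _)
        have h1 : ∀ v ∈ ({x, y, z} : Set T), ∀ g, Commute (q v) (q g) := fun v hv g => by
          have hg : g ∈ Subgroup.closure ({x, y, z} : Set T) := hc ▸ Subgroup.mem_top g
          induction hg using Subgroup.closure_induction with
          | mem w hw => exact hgens v hv w hw
          | one => rw [map_one]; exact Commute.one_right _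
          | mul a b _ _ ha hb => rw [map_mul]; exact ha.mul_right hb
          | inv a _ ha => rw [map_inv]; exact ha.inv_right
        intro g k
        have hg : g ∈ Subgroup.closure ({x, y, z} : Set T) := hc ▸ Subgroup.mem_top g
        induction hg using Subgroup.closure_induction with
        | mem w hw => exact h1 w hw k
        | one => rw [map_one]; exact Commute.one_left _
        | mul a b _ _ ha hb => rw [map_mul]; exact ha.mul_left hb
        | inv a _ ha => rw [map_inv]; exact ha.inv_left
      intro g k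
      rw [← QuotientGroup.eq_one_iff]
      show q ⁅g, k⁆ = 1
      rw [map_commutatorElement, commutatorElement_eq_one_iff_mul_comm]
      exact hqc g k
    have hexp : ∀ t : T, t ^ p = 1 := by
      intro t
      have ht : t ∈ Subgroup.closure {w : T | w ^ p = 1} := hΩ ▸ Subgroup.mem_top t
      induction ht using Subgroup.closure_induction with
      | mem w hw => exact hw
      | one => exact one_pow p
      | inv a _ ha => rw [inv_pow, ha, inv_one]
      | mul a b _ _ ha hb =>
        have hcm : ∀ g : T, Commute ⁅b, a⁆ g := fun g =>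
          (Subgroup.mem_center_iff.1 (hcl b a) g).symm
        have hcp : ⁅b, a⁆ ^ p = 1 := by
          have h1 : (b * a * b⁻¹) ^ p = 1 := by rw [conj_pow, ha, mul_one, mul_inv_cancel]
          rw [show b * a * b⁻¹ = ⁅b, a⁆ * a by rw [commutatorElement_def]; group,
            (hcm a).mul_pow, ha, mul_one] at h1
          exact h1
        rw [PGroups.mul_pow_of_commute (hcm a) (hcm b), ha, hb, one_mul, one_mul]
        exact pow_choose_two_eq_one (PGroups.odd_prime h2) hcp
    have hzp : z ^ p ^ (n - 3) = 1 := by
      rw [show n - 3 = (n - 4) + 1 by omega, pow_succ', pow_mul, hexp z, one_pow]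
    rw [hzp, mul_one, mul_assoc, inv_mul_eq_iff_eq_mul] at hxy
    have hab : ∀ v ∈ ({x, y, z} : Set T), ∀ w ∈ ({x, y, z} : Set T), v * w = w * v := by
      rintro v (rfl | rfl | rfl) w (rfl | rfl | rfl) <;>
        first | rfl | exact hxy | exact hxy.symm | exact hxz | exact hxz.symm | exact hyz | exact hyz.symm
    have hE : IsElementaryAbelian p (⊤ : Subgroup T) := by
      refine ⟨?_, fun a _ => hexp a⟩
      rw [← hc]
      exact Subgroup.isMulCommutative_closure hab
    have := hr ⊤ hE.1 hE.2
    rw [Subgroup.card_top, hn] at this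
    have := (Nat.pow_le_pow_iff_right hp.out.one_lt).1 this
    omega
  · obtain ⟨-, s, x, y, z, -, hc, -, -, -, -, -, hzx⟩ := h
    refine hgen (a := x) (b := z) hc ?_
    rintro w (rfl | rfl | rfl)
    · exact Subgroup.mem_sup_right (Subgroup.subset_closure (Or.inl rfl))
    · refine Subgroup.mem_sup_left ?_
      have : w = ⁅x⁻¹, z⁆ := by
        rw [commutatorElement_def, inv_inv, hzx]; group
      exact this ▸ hD _ _
    · exact Subgroup.mem_sup_right (Subgroup.subset_closure (Or.inr rfl))
  · obtain ⟨-, h2n, hcl⟩ := h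
    refine le_trans (Nat.le_of_dvd (Nat.pos_of_ne_zero Subgroup.index_ne_zero_of_finite)
      (Subgroup.index_dvd_of_le ?_)) (index_commutator_le hT hn h2n hcl)
    rw [commutator_def, Subgroup.commutator_le]
    exact fun a _ b _ => hD a b

end CfsgLib.RankTwoP
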