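/-
p-groups (p odd) with a normal elementary abelian subgroup of order p^2 which is not central and
contains every element of order p of its centralizer.
-/
import Cfsg.Agent.Lib.RankTwoP.Base
import Cfsg.Agent.Lib.PGroups.Series

set_option autoImplicit false
set_option linter.style.haveILetI false

open scoped commutatorElement

namespace CfsgLib.RankTwoP

universe u

/-- The three possibilities. -/
def Outcome (p : ℕ) {G : Type u} [Group G] (E C : Subgroup G) : Prop :=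
  Cfsg.IsMetacyclic G ∨
    (∃ x : G, x ∉ C ∧ x ^ p = 1 ∧
      ∃ c ∈ C, C = E ⊔ Subgroup.zpowers c ∧ c⁻¹ * (x⁻¹ * c * x) ∈ E) ∨
    (p = 3 ∧ C ≠ E ∧ ∃ x : G, x ∉ C ∧ x ^ p ∈ E ∧ ∀ g ∈ C, g * x = x * g → g ∈ E)

theorem prime_dvd_sub_one {p : ℕ} [hp : Fact p.Prime] {r : ℤ} (h : (p : ℤ) ∣ r ^ p - 1) :
    (p : ℤ) ∣ r - 1 := by
  rw [← ZMod.intCast_zmod_eq_zero_iff_dvd, Int.cast_sub, Int.cast_pow, Int.cast_one,
    ZMod.pow_card] at h
  rw [← ZMod.intCast_zmod_eq_zero_iff_dvd, Int.cast_sub, Int.cast_one]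
  exact h

/-- A p-group with an element generating a subgroup of index `p` is metacyclic. -/
theorem isMetacyclic_of_index_prime {G : Type*} [Group G] [Finite G] {p : ℕ} [hp : Fact p.Prime]
    (hG : IsPGroup p G) {x : G} (hx : orderOf x * p = Nat.card G) : Cfsg.IsMetacyclic G := by
  have hi : (Subgroup.zpowers x).index = p := by
    have h := (Subgroup.zpowers x).card_mul_index
    rw [Nat.card_zpowers, ← hx] at h
    exact Nat.eq_of_mul_eq_mul_left (orderOf_pos x) h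
  have hn := TwoGroups.normal_of_isCoatom hG
    (TwoGroups.isCoatom_of_index_prime (H := Subgroup.zpowers x) (hi ▸ hp.out))
  refine ⟨Subgroup.zpowers x, hn, inferInstance, ?_⟩
  exact isCyclic_of_prime_card (p := p) (by rw [← Subgroup.index_eq_card, hi])

variable {p : ℕ} {G : Type u} [Group G] [Finite G] [hp : Fact p.Prime] {E C : Subgroup G}
  (h : Base p E C) (hidx : C.index = p) (h2 : p ≠ 2) (hG : IsPGroup p G)

include hidx in
theorem isCoatom_C : IsCoatom C := TwoGroups.isCoatom_of_index_prime (hidx ▸ hp.out)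

include h hidx in
theorem mem_center_of_commute {e x : G} (he : e ∈ E) (hx : x ∉ C) (hc : e * x = x * e) :
    e ∈ Subgroup.center G := by
  have hle : C ≤ Subgroup.centralizer {e} := fun g hg =>
    Subgroup.mem_centralizer_singleton_iff.2 (h.commute he hg).eq.symm
  have htop : Subgroup.centralizer {e} = ⊤ := (isCoatom_C hidx).2 _ (lt_of_le_of_ne hle fun hh =>
    hx (hh ▸ Subgroup.mem_centralizer_singleton_iff.2 hc.symm))
  exact Subgroup.mem_center_iff.2 fun g =>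
    Subgroup.mem_centralizer_singleton_iff.1 (htop ▸ Subgroup.mem_top g)

include h in
theorem exists_not_commute {x : G} (hx : x ∉ C) : ∃ e ∈ E, e * x ≠ x * e := by
  by_contra! hall
  exact hx (h.cent ▸ Subgroup.mem_centralizer_iff.2 hall)

include hidx in
theorem pow_prime_mem (hn : C.Normal) (x : G) : x ^ p ∈ C := hidx ▸ Subgroup.pow_index_mem C x

include h hidx hG in
theorem card_inf_center : Nat.card (E ⊓ Subgroup.center G : Subgroup G) = p := by
  have := h.normal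
  obtain ⟨x, hx⟩ : ∃ x, x ∉ C := by
    by_contra! hh
    have h1 : C.index = 1 := Subgroup.index_eq_one.2 ((Subgroup.eq_top_iff' C).2 hh)
    exact hp.out.ne_one (hidx.symm.trans h1)
  obtain ⟨e, he, hex⟩ := exists_not_commute h hx
  have hne : E ≠ ⊥ := fun hb => hex (by
    rw [hb, Subgroup.mem_bot] at he
    rw [he, one_mul, mul_one])
  obtain ⟨z, hzE, hz1, hzZ⟩ := TwoGroups.exists_mem_center_of_normal hG hne
  have hd : Nat.card (E ⊓ Subgroup.center G : Subgroup G) ∣ p ^ 2 :=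
    h.card ▸ Subgroup.card_dvd_of_le inf_le_left
  obtain ⟨k, hk, hk'⟩ := (Nat.dvd_prime_pow hp.out).1 hd
  interval_cases k
  · exfalso
    have hb : (E ⊓ Subgroup.center G) = ⊥ := Subgroup.card_eq_one.1 (by simpa using hk')
    exact hz1 (Subgroup.mem_bot.1 (hb ▸ Subgroup.mem_inf.2 ⟨hzE, hzZ⟩))
  · simpa using hk'
  · exfalso
    have heq : E ⊓ Subgroup.center G = E :=
      Subgroup.eq_of_le_of_card_ge inf_le_left (by rw [h.card, hk'])
    have he' : e ∈ E ⊓ Subgroup.center G := heq.symm ▸ he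
    exact hex (Subgroup.mem_center_iff.1 he'.2 x).symm

include h hG in
theorem step_mem_center {e : G} (he : e ∈ E) (y : G) :
    e⁻¹ * (y⁻¹ * e * y) ∈ E ∧ e⁻¹ * (y⁻¹ * e * y) ∈ Subgroup.center G := by
  have := h.normal
  have := hG.isNilpotent
  have hne : E ≠ ⊥ := fun hb => by
    have hc := h.card
    rw [hb, Subgroup.card_bot] at hc
    exact (Nat.one_lt_pow two_ne_zero hp.out.one_lt).ne hc
  have hlt := PGroups.commutator_top_lt hne
  have hm : e⁻¹ * (y⁻¹ * e * y) ∈ ⁅E, (⊤ : Subgroup G)⁆ := by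
    rw [show e⁻¹ * (y⁻¹ * e * y) = ⁅e⁻¹, y⁻¹⁆ by rw [commutatorElement_def]; group]
    exact Subgroup.commutator_mem_commutator (inv_mem he) (Subgroup.mem_top _)
  refine ⟨hlt.le hm, ?_⟩
  have hd : Nat.card (⁅E, (⊤ : Subgroup G)⁆ : Subgroup G) ∣ p ^ 2 :=
    h.card ▸ Subgroup.card_dvd_of_le hlt.le
  obtain ⟨k, hk, hk'⟩ := (Nat.dvd_prime_pow hp.out).1 hd
  interval_cases k
  · rw [pow_zero] at hk'
    rw [Subgroup.card_eq_one.1 hk', Subgroup.mem_bot] at hm
    rw [hm]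
    exact one_mem _
  · exact PGroups.le_center_of_card_eq_prime hG (by simpa using hk') hm
  · exact absurd (Subgroup.eq_of_le_of_card_ge hlt.le (by rw [h.card, hk'])) hlt.ne

include h hidx hG in
theorem exists_zpow_eq {z y : G} (hz : z ∈ E) (hzc : z ∈ Subgroup.center G) (hz1 : z ≠ 1)
    (hy : y ∈ E) (hyc : y ∈ Subgroup.center G) : ∃ i : ℤ, z ^ i = y := by
  have he : Subgroup.zpowers z = E ⊓ Subgroup.center G := by
    refine Subgroup.eq_of_le_of_card_ge (Subgroup.zpowers_le.2 ⟨hz, hzc⟩) ?_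
    rw [card_inf_center h hidx hG, Nat.card_zpowers, orderOf_eq_prime (h.exp z hz) hz1]
  exact Subgroup.mem_zpowers_iff.1 (he ▸ Subgroup.mem_inf.2 ⟨hy, hyc⟩)

include h hidx h2 hG in
/-- The case of a cyclic quotient `C / E`. -/
theorem outcome_cyclic {c : G} (hcC : c ∈ C) (hC : C = E ⊔ Subgroup.zpowers c) :
    Outcome p E C := by
  have := h.normal
  have hCn := h.normalC
  obtain ⟨x, hx⟩ : ∃ x, x ∉ C := by
    by_contra! hh
    exact hp.out.ne_one (hidx ▸ Subgroup.index_eq_one.2 ((Subgroup.eq_top_iff' C).2 hh))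
  have hodd := PGroups.odd_prime h2
  by_cases hcE : c ∈ E
  · have hCE : C = E := by rw [hC, sup_eq_left.2 (Subgroup.zpowers_le.2 hcE)]
    by_cases hxp : x ^ p = 1
    · exact Or.inr (Or.inl ⟨x, hx, hxp, c, hcC, hC,
        mul_mem (inv_mem hcE) (by simpa using h.normal.conj_mem c hcE x⁻¹)⟩)
    refine Or.inl (isMetacyclic_of_index_prime hG (x := x) ?_)
    have h1 : x ^ p ∈ E := hCE ▸ pow_prime_mem hidx hCn x
    have h2' : x ^ p ^ 2 = 1 := by rw [pow_two, pow_mul]; exact h.exp _ h1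
    have ho : orderOf x = p ^ 2 := orderOf_eq_prime_pow (by rwa [pow_one]) h2'
    rw [ho, ← C.card_mul_index, hidx, hCE, h.card]
  set q := QuotientGroup.mk' E with hq
  obtain ⟨m₀, hm₀⟩ := IsPGroup.iff_orderOf.1 (hG.to_quotient E) (q c)
  rcases m₀ with _ | m
  · exact absurd ((QuotientGroup.eq_one_iff c).1 (orderOf_eq_one_iff.1 (hm₀.trans (pow_zero p)))) hcE
  have hK : ∀ i : ℤ, c ^ i ∈ E ↔ ((p : ℤ) ^ (m + 1)) ∣ i := fun i => by
    rw [← QuotientGroup.eq_one_iff, QuotientGroup.mk_zpow, ← Nat.cast_pow, ← hm₀,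
      orderOf_dvd_iff_zpow_eq_one]
    rfl
  have hcomm : ∀ a ∈ C, ∀ b ∈ C, Commute a b := by
    have h1 : ∀ a ∈ C, Commute c a := fun a ha => by
      have hle : C ≤ Subgroup.centralizer {c} := by
        rw [hC]
        exact sup_le (fun e he => Subgroup.mem_centralizer_singleton_iff.2 (h.commute he hcC).eq)
          (Subgroup.zpowers_le.2 (Subgroup.mem_centralizer_singleton_iff.2 rfl))
      exact (Subgroup.mem_centralizer_singleton_iff.1 (hle ha)).symm
    intro a ha b hb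
    have hle : C ≤ Subgroup.centralizer {a} := by
      conv_lhs => rw [hC]
      exact sup_le (fun e he => Subgroup.mem_centralizer_singleton_iff.2 (h.commute he ha).eq)
        (Subgroup.zpowers_le.2 (Subgroup.mem_centralizer_singleton_iff.2 (h1 a ha).eq))
    exact (Subgroup.mem_centralizer_singleton_iff.1 (hle hb)).symm
  set z := c ^ p ^ (m + 1) with hzdef
  have hzE : z ∈ E := by
    have := (hK ((p : ℤ) ^ (m + 1))).2 dvd_rfl
    rwa [← Nat.cast_pow, zpow_natCast] at this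
  have hz1 : z ≠ 1 := fun hz => by
    have h1 : c ^ p ^ m ∈ E := h.small _ (pow_mem hcC _) (by rw [← pow_mul, ← pow_succ]; exact hz)
    have h2' := (hK ((p ^ m : ℕ) : ℤ)).1 (by rwa [zpow_natCast])
    rw [← Nat.cast_pow, Int.natCast_dvd_natCast, Nat.pow_dvd_pow_iff_le_right hp.out.one_lt] at h2'
    omega
  have hoc : orderOf c = p ^ (m + 2) := orderOf_eq_prime_pow hz1
    (by rw [pow_succ, pow_mul]; exact h.exp _ hzE)
  have hcardC : Nat.card C = p ^ (m + 3) := by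
    have h1 : Nat.card (C.map q) = p ^ (m + 1) := by
      rw [hC, Subgroup.map_sup, show E.map q = ⊥ by
        rw [Subgroup.map_eq_bot_iff, QuotientGroup.ker_mk'], bot_sup_eq, MonoidHom.map_zpowers,
        Nat.card_zpowers, hm₀]
    rw [← Subgroup.relIndex_bot_left, ← Subgroup.relIndex_comap, MonoidHom.comap_bot,
      QuotientGroup.ker_mk'] at h1
    have h2' := Subgroup.relIndex_mul_relIndex ⊥ E C bot_le h.le
    rw [Subgroup.relIndex_bot_left, Subgroup.relIndex_bot_left, h.card, h1] at h2'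
    rw [← h2', ← pow_add]; ring_nf
  have hcardG : Nat.card G = p ^ (m + 4) := by
    rw [← C.card_mul_index, hidx, hcardC, ← pow_succ]
  -- the action of `x` on `c`
  obtain ⟨e₁, he₁, w, hw, hre⟩ : ∃ e₁ ∈ E, ∃ w ∈ Subgroup.zpowers c, e₁ * w = x⁻¹ * c * x :=
    Subgroup.mem_sup_of_normal_left.1 (hC ▸ (by simpa using hCn.conj_mem c hcC x⁻¹))
  obtain ⟨r, rfl⟩ := Subgroup.mem_zpowers_iff.1 hw
  have hstep : ∀ (s : ℤ), x⁻¹ * c ^ s * x = c ^ (r * s) * e₁ ^ s := fun s => by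
    have h0 := map_zpow (MulAut.conj x⁻¹) c s
    simp only [MulAut.conj_apply, inv_inv] at h0
    rw [h0, ← hre, Commute.mul_zpow (hcomm _ (h.le he₁) _ (zpow_mem hcC r)), ← zpow_mul]
    exact (hcomm _ (zpow_mem (h.le he₁) s) _ (zpow_mem hcC _)).eq
  have hxpC : x ^ p ∈ C := pow_prime_mem hidx hCn x
  have hfix : (x ^ p)⁻¹ * c * x ^ p = c := by
    rw [mul_assoc, (hcomm c hcC _ hxpC).eq, inv_mul_cancel_left]
  have econj : ∀ a b : G, x⁻¹ * (a * b) * x = (x⁻¹ * a * x) * (x⁻¹ * b * x) := fun a b => by group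
  have hweak : ∀ k : ℕ, ∃ e ∈ E, (x ^ k)⁻¹ * c * x ^ k = c ^ (r ^ k) * e := by
    intro k
    induction k with
    | zero => exact ⟨1, one_mem E, by simp⟩
    | succ k ih =>
      obtain ⟨e, he, hk⟩ := ih
      refine ⟨e₁ ^ (r ^ k) * (x⁻¹ * e * x), mul_mem (zpow_mem he₁ _)
        (by simpa using h.normal.conj_mem e he x⁻¹), ?_⟩
      rw [pow_succ x, show (x ^ k * x)⁻¹ * c * (x ^ k * x) = x⁻¹ * ((x ^ k)⁻¹ * c * x ^ k) * x by
        group, hk, econj, hstep, pow_succ' r, mul_assoc]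
  have hr1 : (p : ℤ) ∣ r - 1 := by
    obtain ⟨e, he, hk⟩ := hweak p
    rw [hfix] at hk
    have h1 : c ^ (r ^ p - 1) ∈ E := by
      rw [zpow_sub, zpow_one, show c ^ r ^ p * c⁻¹ = c ^ r ^ p * (c ^ r ^ p * e)⁻¹ by rw [← hk]]
      have : c ^ r ^ p * (c ^ r ^ p * e)⁻¹ = (c ^ r ^ p) * e⁻¹ * (c ^ r ^ p)⁻¹ := by group
      rw [this]
      exact h.normal.conj_mem _ (inv_mem he) _
    exact prime_dvd_sub_one ((dvd_pow_self _ m.succ_ne_zero).trans ((hK _).1 h1))
  set g₁ := e₁⁻¹ * (x⁻¹ * e₁ * x) with hg₁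
  obtain ⟨hg₁E, hg₁Z⟩ := step_mem_center h hG he₁ x
  have hstrong : ∀ k : ℕ, (x ^ k)⁻¹ * c * x ^ k = c ^ (r ^ k) * (e₁ ^ k * g₁ ^ k.choose 2) := by
    intro k
    induction k with
    | zero => simp
    | succ k ih =>
      rw [pow_succ x, show (x ^ k * x)⁻¹ * c * (x ^ k * x) = x⁻¹ * ((x ^ k)⁻¹ * c * x ^ k) * x by
        group, ih, econj, econj, hstep]
      have he : e₁ ^ (r ^ k) = e₁ := by
        obtain ⟨t, ht⟩ : (p : ℤ) ∣ r ^ k - 1 := hr1.trans (sub_one_dvd_pow_sub_one r k)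
        rw [show r ^ k = 1 + (p : ℤ) * t by linear_combination ht, zpow_add, zpow_one, zpow_mul,
          zpow_natCast, h.exp _ he₁, one_zpow, mul_one]
      have hpw : x⁻¹ * e₁ ^ k * x = e₁ ^ k * g₁ ^ k := by
        have h0 := map_pow (MulAut.conj x⁻¹) e₁ k
        simp only [MulAut.conj_apply, inv_inv] at h0
        rw [h0, show x⁻¹ * e₁ * x = e₁ * g₁ by rw [hg₁]; group,
          (h.commute he₁ (h.le hg₁E)).mul_pow]
      have hgf : x⁻¹ * g₁ ^ k.choose 2 * x = g₁ ^ k.choose 2 := by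
        rw [mul_assoc, ← Subgroup.mem_center_iff.1 (pow_mem hg₁Z _) x, inv_mul_cancel_left]
      rw [he, hpw, hgf, Nat.choose_succ_succ' k 1, Nat.choose_one_right, pow_succ' r k,
        pow_succ' e₁ k, pow_add]
      simp only [mul_assoc]
  have hrm : ((p : ℤ) ^ (m + 1)) ∣ r - 1 := by
    have h1 := hstrong p
    rw [hfix, h.exp _ he₁, pow_choose_two_eq_one hodd (h.exp _ hg₁E), one_mul, mul_one] at h1
    have h1' : c ^ (r ^ p - 1) = 1 := by rw [zpow_sub, zpow_one, ← h1, mul_inv_cancel]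
    refine dvd_sub_one_of_pow hodd ?_
    rw [← orderOf_dvd_iff_zpow_eq_one, hoc] at h1'
    simpa [Nat.cast_pow] using h1'
  set d := c⁻¹ * (x⁻¹ * c * x) with hd
  have hdE : d ∈ E := by
    rw [hd, ← hre]
    have : c⁻¹ * (e₁ * c ^ r) = (c⁻¹ * e₁ * c) * c ^ (r - 1) := by
      rw [show r - 1 = -1 + r by ring, zpow_add, zpow_neg_one]; group
    rw [this]
    exact mul_mem (by simpa using h.normal.conj_mem e₁ he₁ c⁻¹) ((hK _).2 hrm)
  set g := d⁻¹ * (x⁻¹ * d * x) with hg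
  obtain ⟨hgE, hgZ⟩ := step_mem_center h hG hdE x
  have hpowC : ∀ j : ℤ, x⁻¹ * c ^ j * x = c ^ j * d ^ j := fun j => by
    have h0 := map_zpow (MulAut.conj x⁻¹) c j
    simp only [MulAut.conj_apply, inv_inv] at h0
    rw [h0, show x⁻¹ * c * x = c * d by rw [hd]; group, (hcomm c hcC d (h.le hdE)).mul_zpow]
  have hdj : ∀ j : ℤ, x⁻¹ * d ^ j * x = d ^ j * g ^ j := fun j => by
    have h0 := map_zpow (MulAut.conj x⁻¹) d j
    simp only [MulAut.conj_apply, inv_inv] at h0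
    rw [h0, show x⁻¹ * d * x = d * g by rw [hg]; group, (h.commute hdE (h.le hgE)).mul_zpow]
  have hkey : ∀ (y : G), (∀ a ∈ C, y⁻¹ * a * y = x⁻¹ * a * x) → ∀ j : ℤ,
      (y * c ^ j) ^ p = y ^ p * (c ^ ((p : ℤ) * j) * (g ^ j) ^ p.choose 3) := by
    intro y hy j
    rw [mul_pow_chain (v := c ^ j) (f := d ^ j) (g := g ^ j)
      ((hy _ (zpow_mem hcC j)).trans (hpowC j)) ((hy _ (zpow_mem (h.le hdE) j)).trans (hdj j))
      (by rw [mul_assoc, ← Subgroup.mem_center_iff.1 (zpow_mem hgZ j) y, inv_mul_cancel_left])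
      (hcomm _ (zpow_mem hcC j) _ (zpow_mem (h.le hdE) j))
      (hcomm _ (zpow_mem hcC j) _ (zpow_mem (h.le hgE) j))
      (hcomm _ (zpow_mem (h.le hdE) j) _ (zpow_mem (h.le hgE) j))]
    rw [pow_choose_two_eq_one hodd (h.exp _ (zpow_mem hdE j)), mul_one,
      mul_comm (p : ℤ), zpow_mul, zpow_natCast]
  have hzZ : z ∈ Subgroup.center G := by
    refine mem_center_of_commute h hidx hzE hx ?_
    have h1 := hpowC ((p ^ (m + 1) : ℕ) : ℤ)
    rw [zpow_natCast, zpow_natCast, pow_succ' p m, pow_mul d, h.exp _ hdE, one_pow, mul_one,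
      ← pow_succ' p m, ← hzdef] at h1
    calc z * x = x * (x⁻¹ * z * x) := by group
      _ = x * z := by rw [h1]
  obtain ⟨e, he, w', hw', hxe⟩ : ∃ e ∈ E, ∃ w' ∈ Subgroup.zpowers c, e * w' = x ^ p :=
    Subgroup.mem_sup_of_normal_left.1 (hC ▸ hxpC)
  obtain ⟨l, rfl⟩ := Subgroup.mem_zpowers_iff.1 hw'
  by_cases hl : (p : ℤ) ∣ l
  swap
  · refine Or.inl (isMetacyclic_of_index_prime hG (x := x) ?_)
    have h1 : orderOf (x ^ p) = p ^ (m + 2) := by
      refine orderOf_eq_prime_pow ?_ ?_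
      · rw [← hxe, (hcomm _ (h.le he) _ (zpow_mem hcC l)).mul_pow, pow_succ' p m, pow_mul e,
          h.exp _ he, one_pow, one_mul, ← pow_succ' p m, ← zpow_natCast (c ^ l), ← zpow_mul,
          mul_comm, zpow_mul, zpow_natCast, ← hzdef, ← orderOf_dvd_iff_zpow_eq_one,
          orderOf_eq_prime (h.exp _ hzE) hz1]
        exact hl
      · rw [← hxe, (hcomm _ (h.le he) _ (zpow_mem hcC l)).mul_pow, pow_succ' p (m + 1), pow_mul e,
          h.exp _ he, one_pow, one_mul, ← pow_succ' p (m + 1), ← hoc, ← zpow_natCast (c ^ l),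
          ← zpow_mul, mul_comm, zpow_mul, zpow_natCast, pow_orderOf_eq_one, one_zpow]
    obtain ⟨k, hk⟩ := IsPGroup.iff_orderOf.1 hG x
    have h3 : k = m + 3 := by
      rcases k with _ | k
      · rw [pow_zero, orderOf_eq_one_iff] at hk
        exact absurd (hk ▸ one_mem C) hx
      · rw [orderOf_pow_of_dvd hp.out.ne_zero (hk ▸ dvd_pow_self p k.succ_ne_zero), hk, pow_succ,
          Nat.mul_div_cancel _ hp.out.pos] at h1
        have := Nat.pow_right_injective hp.out.two_le h1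
        omega
    rw [hk, h3, hcardG, ← pow_succ]
  obtain ⟨l', rfl⟩ := hl
  set x₁ := x * c ^ (-l') with hx₁
  have hx₁C : x₁ ∉ C := fun hh => hx ((mul_mem_cancel_right (zpow_mem hcC _)).1 hh)
  have hx₁act : ∀ a ∈ C, x₁⁻¹ * a * x₁ = x⁻¹ * a * x := fun a ha => by
    have hm : x⁻¹ * a * x ∈ C := by simpa using hCn.conj_mem a ha x⁻¹
    calc x₁⁻¹ * a * x₁ = (c ^ (-l'))⁻¹ * ((x⁻¹ * a * x) * c ^ (-l')) := by rw [hx₁]; group
      _ = _ := by rw [(hcomm _ hm _ (zpow_mem hcC _)).eq, inv_mul_cancel_left]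
  have hx₁pE : x₁ ^ p ∈ E := by
    rw [hx₁, hkey x (fun _ _ => rfl), ← hxe]
    rw [show e * c ^ ((p : ℤ) * l') * (c ^ ((p : ℤ) * -l') * (g ^ (-l')) ^ p.choose 3) =
      e * (g ^ (-l')) ^ p.choose 3 by rw [mul_neg, zpow_neg]; group]
    exact mul_mem he (pow_mem (zpow_mem hgE _) _)
  obtain ⟨t, ht⟩ := exists_zpow_eq h hidx hG hzE hzZ hz1 hx₁pE
    (mem_center_of_commute h hidx hx₁pE hx₁C ((Commute.refl x₁).pow_left p).eq)
  set j := -(t * ((p ^ m : ℕ) : ℤ)) with hj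
  have hx₂ : (x₁ * c ^ j) ^ p = (g ^ j) ^ p.choose 3 := by
    rw [hkey x₁ hx₁act, ← mul_assoc, ← ht, hzdef, ← zpow_natCast c, ← zpow_mul, ← zpow_add,
      show ((p ^ (m + 1) : ℕ) : ℤ) * t + (p : ℤ) * j = 0 by rw [hj]; push_cast; ring,
      zpow_zero, one_mul]
  by_cases hgj : (g ^ j) ^ p.choose 3 = 1
  · refine Or.inr (Or.inl ⟨x₁ * c ^ j,
      fun hh => hx₁C ((mul_mem_cancel_right (zpow_mem hcC _)).1 hh), hx₂.trans hgj, c, hcC, hC, ?_⟩)
    have hm : x₁⁻¹ * c * x₁ ∈ C := by simpa using hCn.conj_mem c hcC x₁⁻¹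
    rw [show (x₁ * c ^ j)⁻¹ * c * (x₁ * c ^ j) = (c ^ j)⁻¹ * ((x₁⁻¹ * c * x₁) * c ^ j) by group,
      (hcomm _ hm _ (zpow_mem hcC j)).eq, inv_mul_cancel_left, hx₁act c hcC]
    exact hdE
  have hp3 : p = 3 := prime_eq_three h2 (h.exp _ (zpow_mem hgE j)) hgj
  have hm0 : m = 0 := by
    by_contra hm
    apply hgj
    obtain ⟨m', hm'⟩ := Nat.exists_eq_succ_of_ne_zero hm
    rw [show j = (p : ℤ) * (-(t * (p : ℤ) ^ m')) by rw [hj, hm']; push_cast [pow_succ]; ring, zpow_mul,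
      zpow_natCast, h.exp _ hgE, one_zpow, one_pow]
  have hg1 : g ≠ 1 := fun hg1 => hgj (by rw [hg1, one_zpow, one_pow])
  have hdZ : d ∉ Subgroup.center G := fun hdc => hg1 (by
    rw [hg, mul_assoc x⁻¹, ← Subgroup.mem_center_iff.1 hdc x, inv_mul_cancel_left, inv_mul_cancel])
  refine Or.inr (Or.inr ⟨hp3, fun hCE => hcE (hCE ▸ hcC), x₁, hx₁C, hx₁pE, fun y hy hyx => ?_⟩)
  obtain ⟨e₂, he₂, w₂, hw₂, rfl⟩ := Subgroup.mem_sup_of_normal_left.1 (hC ▸ hy)
  obtain ⟨i, rfl⟩ := Subgroup.mem_zpowers_iff.1 hw₂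
  by_cases hi : (p : ℤ) ∣ i
  · exact mul_mem he₂ ((hK i).2 (by rw [hm0]; simpa using hi))
  exfalso
  apply hdZ
  have h1 : x⁻¹ * (e₂ * c ^ i) * x = e₂ * c ^ i := by
    rw [← hx₁act _ hy, mul_assoc, hyx, inv_mul_cancel_left]
  rw [econj, hpowC] at h1
  obtain ⟨hsE, hsZ⟩ := step_mem_center h hG he₂ x
  have h3 : d ^ i = (e₂⁻¹ * (x⁻¹ * e₂ * x))⁻¹ := by
    have hm : x⁻¹ * e₂ * x ∈ E := by simpa using h.normal.conj_mem e₂ he₂ x⁻¹
    have e1 : (x⁻¹ * e₂ * x) * (c ^ i * d ^ i) = c ^ i * ((x⁻¹ * e₂ * x) * d ^ i) := by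
      rw [← mul_assoc, (hcomm _ (h.le hm) _ (zpow_mem hcC i)).eq, mul_assoc]
    rw [e1, (hcomm _ (h.le he₂) _ (zpow_mem hcC i)).eq] at h1
    have h4 := mul_left_cancel h1
    calc d ^ i = (x⁻¹ * e₂ * x)⁻¹ * ((x⁻¹ * e₂ * x) * d ^ i) := by group
      _ = _ := by rw [h4]; group
  obtain ⟨s, s', hs⟩ :=
    ((Nat.prime_iff_prime_int.1 hp.out).irreducible.coprime_iff_not_dvd).2 hi
  rw [show d = (d ^ i) ^ s' by
    rw [← zpow_mul, mul_comm i, ← one_mul (d ^ (s' * i)), ← one_zpow s, ← h.exp _ hdE,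
      ← zpow_natCast, ← zpow_mul, ← zpow_add, mul_comm (p : ℤ), hs, zpow_one], h3]
  exact zpow_mem (inv_mem hsZ) _

include h hidx h2 hG in
/-- An element outside `C` moves the root subgroup modulo `E`. -/
theorem exists_moved (hs : ∀ e ∈ E, ∃ t ∈ C, t ^ p = e) {x : G} (hx : x ∉ C) :
    ∃ u ∈ h.root h2 hG, u⁻¹ * (x⁻¹ * u * x) ∉ E := by
  by_contra! hall
  obtain ⟨e, he, hne⟩ := exists_not_commute h hx
  obtain ⟨t, htC, rfl⟩ := hs e he
  have hf := hall t ⟨htC, he⟩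
  apply hne
  have h1 : x⁻¹ * t ^ p * x = t ^ p := by
    have h0 := map_pow (MulAut.conj x⁻¹) t p
    simp only [MulAut.conj_apply, inv_inv] at h0
    rw [h0, show x⁻¹ * t * x = t * (t⁻¹ * (x⁻¹ * t * x)) by group,
      h.mul_pow h2 hG htC (h.le hf) (by rw [h.exp _ hf]; exact one_mem E), h.exp _ hf, mul_one]
  calc t ^ p * x = x * (x⁻¹ * t ^ p * x) := by group
    _ = x * t ^ p := by rw [h1]

include h hidx h2 hG in
/-- The chain of commutators of `x` starting in the root subgroup. -/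
theorem chain (hs : ∀ e ∈ E, ∃ t ∈ C, t ^ p = e) {x : G} (hx : x ∉ C) :
    ∃ u f g w : G, u ∈ h.root h2 hG ∧ f ∈ h.root h2 hG ∧ f ∉ E ∧ g ∈ E ∧ w ∈ E ∧
      w ∈ Subgroup.center G ∧ f ^ p ∈ Subgroup.center G ∧
      x⁻¹ * u * x = u * f ∧ x⁻¹ * f * x = f * g ∧ x⁻¹ * g * x = g * w ∧ x⁻¹ * w * x = w := by
  obtain ⟨u, hu, hf⟩ := exists_moved h hidx h2 hG hs hx
  set f := u⁻¹ * (x⁻¹ * u * x) with hfdef
  have hn := h.root_normal h2 hG
  have hfR : f ∈ h.root h2 hG := mul_mem (inv_mem hu) (by simpa using hn.conj_mem u hu x⁻¹)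
  have key : ∀ v ∈ h.root h2 hG,
      (v⁻¹ * (x⁻¹ * v * x)) ^ p = (v ^ p)⁻¹ * (x⁻¹ * v ^ p * x) := fun v hv => by
    have hvR : x⁻¹ * v * x ∈ h.root h2 hG := by simpa using hn.conj_mem v hv x⁻¹
    rw [h.mul_pow h2 hG (inv_mem hv.1) hvR.1 hvR.2, inv_pow]
    congr 1
    have h0 := map_pow (MulAut.conj x⁻¹) v p
    simp only [MulAut.conj_apply, inv_inv] at h0
    exact h0.symm
  have hfp : f ^ p ∈ Subgroup.center G := by
    rw [hfdef, key u hu]; exact (step_mem_center h hG hu.2 x).2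
  set g := f⁻¹ * (x⁻¹ * f * x) with hgdef
  have hgE : g ∈ E := by
    refine h.small g (mul_mem (inv_mem hfR.1) (by simpa using h.normalC.conj_mem f hfR.1 x⁻¹)) ?_
    rw [hgdef, key f hfR, mul_assoc x⁻¹, ← Subgroup.mem_center_iff.1 hfp x, inv_mul_cancel_left,
      inv_mul_cancel]
  obtain ⟨hwE, hwZ⟩ := step_mem_center h hG hgE x
  refine ⟨u, f, g, g⁻¹ * (x⁻¹ * g * x), hu, hfR, hf, hgE, hwE, hwZ, hfp, ?_, ?_, by group, ?_⟩
  · rw [hfdef]; group
  · rw [hgdef]; group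
  · rw [mul_assoc, ← Subgroup.mem_center_iff.1 hwZ x, inv_mul_cancel_left]

include h hidx h2 hG in
/-- The third possibility from an element outside `C` with p-th power in `E`. -/
theorem self_centralizing (hs : ∀ e ∈ E, ∃ t ∈ C, t ^ p = e) {x : G} (hx : x ∉ C)
    (hxp : x ^ p ∈ E) : p = 3 ∧ C ≠ E ∧ ∀ g ∈ C, g * x = x * g → g ∈ E := by
  have hodd := PGroups.odd_prime h2
  obtain ⟨u, f, g, w, hu, hf, hfE, hgE, hwE, hwZ, hfp, hcu, hcf, hcg, hcw⟩ :=
    chain h hidx h2 hG hs hx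
  have hchain := conj_pow_chain hcu hcf hcg hcw (h.commute hgE hf.1).symm
    (h.commute hwE hf.1).symm (h.commute hwE (h.le hgE)).symm p
  rw [mul_assoc _ u, ← (h.commute hxp hu.1).eq, inv_mul_cancel_left,
    pow_choose_two_eq_one hodd (h.exp _ hgE), mul_one, mul_assoc, left_eq_mul] at hchain
  have hfp1 : f ^ p ≠ 1 := fun hh => hfE (h.small f hf.1 hh)
  have hw3 : w ^ p.choose 3 ≠ 1 := fun hh => hfp1 (by rwa [hh, mul_one] at hchain)
  refine ⟨prime_eq_three h2 (h.exp _ hwE) hw3, fun hCE => hfE (hCE ▸ hf.1), fun v hv hvx => ?_⟩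
  by_contra hvE
  obtain ⟨k, hk⟩ := IsPGroup.iff_orderOf.1 hG v
  rcases k with _ | _ | k
  · exact hvE (h.small v hv (by
      rw [pow_zero, orderOf_eq_one_iff] at hk
      rw [hk, one_pow]))
  · exact hvE (h.small v hv (by
      have := pow_orderOf_eq_one v
      rwa [hk, zero_add, pow_one] at this))
  set a := v ^ p ^ k with ha
  have ha1 : a ^ p ≠ 1 := fun hh => by
    rw [ha, ← pow_mul, ← pow_succ] at hh
    have := orderOf_dvd_of_pow_eq_one hh
    rw [hk, Nat.pow_dvd_pow_iff_le_right hp.out.one_lt] at this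
    omega
  have hapE : a ^ p ∈ E := h.small _ (pow_mem (pow_mem hv _) _) (by
    rw [ha, ← pow_mul, ← pow_mul, ← mul_assoc, ← pow_succ, ← pow_succ, ← hk, pow_orderOf_eq_one])
  have hax : Commute a x := Commute.pow_left (show Commute v x from hvx) _
  have hapZ : a ^ p ∈ Subgroup.center G :=
    mem_center_of_commute h hidx hapE hx (hax.pow_left p).eq
  obtain ⟨i, hi⟩ := exists_zpow_eq h hidx hG hapE hapZ ha1 hf.2 hfp
  have haR : a ∈ h.root h2 hG := ⟨pow_mem hv _, hapE⟩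
  have he : (a ^ i)⁻¹ * f ∈ E := by
    refine h.small _ (mul_mem (inv_mem (zpow_mem haR.1 i)) hf.1) ?_
    rw [h.mul_pow h2 hG (inv_mem (zpow_mem haR.1 i)) hf.1 hf.2, inv_pow, ← hi, ← zpow_natCast,
      ← zpow_natCast a, ← zpow_mul, ← zpow_mul, mul_comm i, inv_mul_cancel]
  obtain ⟨hse, hsz⟩ := step_mem_center h hG he x
  apply hw3
  have hgZ : g ∈ Subgroup.center G := by
    have : g = ((a ^ i)⁻¹ * f)⁻¹ * (x⁻¹ * ((a ^ i)⁻¹ * f) * x) := by
      rw [show g = f⁻¹ * (x⁻¹ * f * x) by rw [hcf]; group]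
      have hai : x⁻¹ * a ^ i * x = a ^ i := by
        rw [mul_assoc, (hax.zpow_left i).eq, inv_mul_cancel_left]
      calc f⁻¹ * (x⁻¹ * f * x)
          = f⁻¹ * (x⁻¹ * a ^ i * x) * ((x⁻¹ * a ^ i * x)⁻¹ * (x⁻¹ * f * x)) := by group
        _ = f⁻¹ * a ^ i * ((x⁻¹ * a ^ i * x)⁻¹ * (x⁻¹ * f * x)) := by rw [hai]
        _ = _ := by group
    rw [this]; exact hsz
  have : w = 1 := by
    have h0 : x⁻¹ * g * x = g := by
      rw [mul_assoc, ← Subgroup.mem_center_iff.1 hgZ x, inv_mul_cancel_left]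
    exact mul_eq_left.1 (hcg.symm.trans h0)
  rw [this, one_pow]

include h hidx h2 hG in
/-- If `C` is bigger than the root subgroup, no element outside `C` has p-th power in the root
subgroup outside `E`. -/
theorem pow_mem_of_mem_root (hs : ∀ e ∈ E, ∃ t ∈ C, t ^ p = e) {x : G} (hx : x ∉ C)
    (hxp : x ^ p ∈ h.root h2 hG) {c : G} (hc : c ∈ C) (hcR : c ∉ h.root h2 hG) : x ^ p ∈ E := by
  by_contra hk
  have hodd := PGroups.odd_prime h2
  obtain ⟨u, f, g, w, hu, hf, hfE, hgE, hwE, hwZ, hfp, hcu, hcf, hcg, hcw⟩ :=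
    chain h hidx h2 hG hs hx
  set k := x ^ p with hkdef
  have hkx : Commute k x := (Commute.refl x).pow_left p
  have hk1 : k ^ p ≠ 1 := fun hh => hk (h.small k hxp.1 hh)
  have hkZ : k ^ p ∈ Subgroup.center G :=
    mem_center_of_commute h hidx hxp.2 hx (hkx.pow_left p).eq
  obtain ⟨i, hi⟩ := exists_zpow_eq h hidx hG hxp.2 hkZ hk1 hf.2 hfp
  have he : (k ^ i)⁻¹ * f ∈ E := by
    refine h.small _ (mul_mem (inv_mem (zpow_mem hxp.1 i)) hf.1) ?_
    rw [h.mul_pow h2 hG (inv_mem (zpow_mem hxp.1 i)) hf.1 hf.2, inv_pow, ← hi, ← zpow_natCast,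
      ← zpow_natCast k, ← zpow_mul, ← zpow_mul, mul_comm i, inv_mul_cancel]
  obtain ⟨hse, hsz⟩ := step_mem_center h hG he x
  have hgZ : g ∈ Subgroup.center G := by
    have : g = ((k ^ i)⁻¹ * f)⁻¹ * (x⁻¹ * ((k ^ i)⁻¹ * f) * x) := by
      rw [show g = f⁻¹ * (x⁻¹ * f * x) by rw [hcf]; group]
      have hai : x⁻¹ * k ^ i * x = k ^ i := by
        rw [mul_assoc, (hkx.zpow_left i).eq, inv_mul_cancel_left]
      calc f⁻¹ * (x⁻¹ * f * x)
          = f⁻¹ * (x⁻¹ * k ^ i * x) * ((x⁻¹ * k ^ i * x)⁻¹ * (x⁻¹ * f * x)) := by group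
        _ = f⁻¹ * k ^ i * ((x⁻¹ * k ^ i * x)⁻¹ * (x⁻¹ * f * x)) := by rw [hai]
        _ = _ := by group
    rw [this]; exact hsz
  have hw1 : w = 1 := by
    have h0 : x⁻¹ * g * x = g := by
      rw [mul_assoc, ← Subgroup.mem_center_iff.1 hgZ x, inv_mul_cancel_left]
    exact mul_eq_left.1 (hcg.symm.trans h0)
  have hchain := conj_pow_chain hcu hcf hcg hcw (h.commute hgE hf.1).symm
    (h.commute hwE hf.1).symm (h.commute hwE (h.le hgE)).symm p
  rw [hw1, one_pow, mul_one, pow_choose_two_eq_one hodd (h.exp _ hgE), mul_one] at hchain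
  -- the root subgroup is abelian, so `x ^ p` fixes `u`
  obtain ⟨n, hn⟩ := IsPGroup.iff_orderOf.1 hG c
  obtain ⟨n, rfl⟩ : ∃ n', n = n' + 3 := by
    refine ⟨n - 3, (Nat.sub_add_cancel ?_).symm⟩
    by_contra hn3
    apply hcR
    refine ⟨hc, h.small _ (pow_mem hc p) ?_⟩
    have h3 : orderOf c ∣ p ^ 2 := hn ▸ pow_dvd_pow p (by omega)
    rw [← pow_mul, ← pow_two]
    exact orderOf_dvd_iff_pow_eq_one.1 h3
  set s := c ^ p ^ n with hs'
  set v := s ^ p with hv
  have hvR : v ∈ h.root h2 hG := by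
    refine ⟨pow_mem (pow_mem hc _) _, h.small _ (pow_mem (pow_mem (pow_mem hc _) _) _) ?_⟩
    rw [hv, hs', ← pow_mul, ← pow_mul, ← pow_mul, ← mul_assoc, ← mul_assoc, ← pow_succ, ← pow_succ,
      ← pow_succ, ← hn,
      pow_orderOf_eq_one]
  have hvE : v ∉ E := fun hh => by
    have := h.exp v hh
    rw [hv, hs', ← pow_mul, ← pow_mul, ← mul_assoc, ← pow_succ, ← pow_succ] at this
    have := orderOf_dvd_of_pow_eq_one this
    rw [hn, Nat.pow_dvd_pow_iff_le_right hp.out.one_lt] at this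
    omega
  have hvc : ∀ y ∈ h.root h2 hG, Commute y v := by
    intro y hy
    have hsC : s ∈ C := pow_mem hc _
    set e' := y⁻¹ * (s⁻¹ * y * s) with he'
    have he'E : e' ∈ E := by
      have := h.commutator_mem h2 hG (inv_mem hy.1) (by rw [inv_pow]; exact inv_mem hy.2)
        (inv_mem hsC)
      rw [commutatorElement_def] at this
      simpa [he', mul_assoc] using this
    have h1 := conj_pow_chain (x := s) (u := y) (f := e') (g := 1) (h := 1) (by rw [he']; group)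
      (by rw [mul_one, mul_assoc, (h.commute he'E hsC).eq, inv_mul_cancel_left])
      (by group) (by group) (Commute.one_right _) (Commute.one_right _) (Commute.one_right _) p
    rw [h.exp _ he'E, one_pow, one_pow, mul_one, mul_one, mul_one] at h1
    show y * v = v * y
    calc y * v = v * ((s ^ p)⁻¹ * y * s ^ p) := by rw [hv]; group
      _ = v * y := by rw [h1]
  have hab : ∀ y ∈ h.root h2 hG, ∀ y' ∈ h.root h2 hG, Commute y y' := by
    intro y hy y' hy'
    by_cases hyv : y ∈ E ⊔ Subgroup.zpowers v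
    · have hle : E ⊔ Subgroup.zpowers v ≤ Subgroup.centralizer {y'} := sup_le
        (fun e he => Subgroup.mem_centralizer_singleton_iff.2 (h.commute he hy'.1).eq)
        (Subgroup.zpowers_le.2 (Subgroup.mem_centralizer_singleton_iff.2 (hvc y' hy').eq.symm))
      exact Subgroup.mem_centralizer_singleton_iff.1 (hle hyv)
    set H := E ⊔ Subgroup.zpowers v ⊔ Subgroup.zpowers y
    have hHle : H ≤ h.root h2 hG := sup_le (sup_le (h.le_root h2 hG)
      (Subgroup.zpowers_le.2 hvR)) (Subgroup.zpowers_le.2 hy)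
    have hH : H = h.root h2 hG := by
      refine Subgroup.eq_of_le_of_card_ge hHle ((h.card_root_le h2 hG).trans ?_)
      have l1 : E < E ⊔ Subgroup.zpowers v := lt_of_le_of_ne le_sup_left fun hh =>
        hvE (hh ▸ Subgroup.mem_sup_right (Subgroup.mem_zpowers v))
      have l2 : E ⊔ Subgroup.zpowers v < H := lt_of_le_of_ne le_sup_left fun hh =>
        hyv (hh.symm ▸ Subgroup.mem_sup_right (Subgroup.mem_zpowers y))
      have c1 := PGroups.prime_mul_card_le hG l1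
      have c2 := PGroups.prime_mul_card_le hG l2
      rw [h.card] at c1
      calc p ^ 4 = p * (p * p ^ 2) := by ring
        _ ≤ p * Nat.card (E ⊔ Subgroup.zpowers v : Subgroup G) := Nat.mul_le_mul_left _ c1
        _ ≤ _ := c2
    have hle : H ≤ Subgroup.centralizer {y} := sup_le (sup_le
        (fun e he => Subgroup.mem_centralizer_singleton_iff.2 (h.commute he hy.1).eq)
        (Subgroup.zpowers_le.2 (Subgroup.mem_centralizer_singleton_iff.2 (hvc y hy).eq.symm)))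
      (Subgroup.zpowers_le.2 (Subgroup.mem_centralizer_singleton_iff.2 rfl))
    exact (Subgroup.mem_centralizer_singleton_iff.1 (hle (hH.symm ▸ hy'))).symm
  rw [mul_assoc, (hab u hu k hxp).eq, inv_mul_cancel_left, left_eq_mul] at hchain
  exact hfE (h.small f hf.1 hchain)

omit h hidx hG in
/-- Classification in the non-central case. -/
theorem outcome {p : ℕ} [hp : Fact p.Prime] (h2 : p ≠ 2) (n : ℕ) :
    ∀ {G : Type u} [Group G] [Finite G], Nat.card G = n → IsPGroup p G →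
      ∀ E C : Subgroup G, Base p E C → C.index = p → Outcome p E C := by
  induction n using Nat.strong_induction_on with
  | _ n ih =>
    intro G _ _ hn hG E C h hidx
    rcases h.root_surjective_or_cyclic h2 hG with hs | ⟨c, hcC, hC⟩
    swap
    · exact outcome_cyclic h hidx h2 hG hcC hC
    have := h.normal
    have hCn := h.normalC
    set q := QuotientGroup.mk' E with hq
    set F := (h.root h2 hG).map q with hF
    set D := C.map q with hD
    have hmemq : ∀ y : G, q y ∈ D → y ∈ C := by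
      rintro y ⟨c, hc, hcy⟩
      obtain ⟨e, he, rfl⟩ := (QuotientGroup.mk'_eq_mk' (N := E)).1 hcy
      exact mul_mem hc (h.le he)
    have hFC : ∀ c ∈ C, ∀ v ∈ h.root h2 hG, q v * q c = q c * q v := fun c hc v hv => by
      rw [← commutatorElement_eq_one_iff_mul_comm, ← map_commutatorElement]
      exact (QuotientGroup.eq_one_iff _).2 (h.commutator_mem h2 hG hv.1 hv.2 hc)
    have hbase : Base p F D := by
      refine ⟨(h.root_normal h2 hG).map q (QuotientGroup.mk'_surjective E), ?_, ?_,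
        h.card_map_root h2 hG hs, ?_, ?_⟩
      · rintro _ ⟨u, hu, rfl⟩ _ ⟨v, hv, rfl⟩
        exact hFC v hv.1 u hu
      · rintro _ ⟨v, hv, rfl⟩
        rw [← map_pow]
        exact (QuotientGroup.eq_one_iff _).2 hv.2
      · refine le_antisymm ?_ fun y hy => ?_
        · rintro _ ⟨c, hc, rfl⟩
          refine Subgroup.mem_centralizer_iff.2 ?_
          rintro _ ⟨v, hv, rfl⟩
          exact hFC c hc v hv
        · obtain ⟨y, rfl⟩ := QuotientGroup.mk'_surjective E y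
          by_contra hyD
          obtain ⟨u, hu, hmoved⟩ := exists_moved h hidx h2 hG hs
            (x := y) (fun hyC => hyD (Subgroup.mem_map_of_mem q hyC))
          apply hmoved
          have h1 := Subgroup.mem_centralizer_iff.1 hy _ (Subgroup.mem_map_of_mem q hu)
          rw [← QuotientGroup.eq_one_iff]
          show q (u⁻¹ * (y⁻¹ * u * y)) = 1
          rw [map_mul, map_mul, map_mul, map_inv, map_inv, mul_assoc _ (q u), h1,
            inv_mul_cancel_left, inv_mul_cancel]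
      · rintro _ ⟨g, hg, rfl⟩ hgp
        rw [← map_pow] at hgp
        exact ⟨g, ⟨hg, (QuotientGroup.eq_one_iff _).1 hgp⟩, rfl⟩
    have hidx' : D.index = p := by
      rw [hD, Subgroup.index_map_eq _ (QuotientGroup.mk'_surjective E)
        (by rw [QuotientGroup.ker_mk']; exact h.le), hidx]
    have hlt : Nat.card (G ⧸ E) < n := by
      have h1 := E.card_eq_card_quotient_mul_card_subgroup
      rw [h.card, hn] at h1
      have h4 : 4 ≤ p ^ 2 := by have := hp.out.two_le; nlinarith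
      have := Nat.card_pos (α := G ⧸ E)
      nlinarith
    rcases ih _ hlt rfl (hG.to_quotient E) F D hbase hidx' with hM | hT | hX
    · refine Or.inl (isMetacyclic_lift h2 hG E h.comm (fun e he => ?_) (fun g e he => ?_) hM)
      · obtain ⟨t, -, ht⟩ := hs e he
        exact ⟨t, ht⟩
      · exact (h.commute he (pow_prime_mem hidx hCn g)).eq.symm
    · obtain ⟨x', hx', hxp', -⟩ := hT
      obtain ⟨x, rfl⟩ := QuotientGroup.mk'_surjective E x'
      have hx : x ∉ C := fun hh => hx' (Subgroup.mem_map_of_mem q hh)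
      rw [← map_pow] at hxp'
      have hxp : x ^ p ∈ E := (QuotientGroup.eq_one_iff _).1 hxp'
      obtain ⟨h3, hne, hcx⟩ := self_centralizing h hidx h2 hG hs hx hxp
      exact Or.inr (Or.inr ⟨h3, hne, x, hx, hxp, hcx⟩)
    · obtain ⟨-, hDF, x', hx', hxp', -⟩ := hX
      obtain ⟨x, rfl⟩ := QuotientGroup.mk'_surjective E x'
      have hx : x ∉ C := fun hh => hx' (Subgroup.mem_map_of_mem q hh)
      obtain ⟨c, hc, hcR⟩ : ∃ c ∈ C, c ∉ h.root h2 hG := by
        by_contra! hh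
        exact hDF (le_antisymm (Subgroup.map_mono hh) (Subgroup.map_mono fun v hv => hv.1))
      have hxR : x ^ p ∈ h.root h2 hG := by
        rw [← map_pow] at hxp'
        obtain ⟨v, hv, hvx⟩ := hxp'
        obtain ⟨e, he, hve⟩ := (QuotientGroup.mk'_eq_mk' (N := E)).1 hvx
        exact hve ▸ mul_mem hv (h.le_root h2 hG he)
      have hxp := pow_mem_of_mem_root h hidx h2 hG hs hx hxR hc hcR
      obtain ⟨h3, hne, hcx⟩ := self_centralizing h hidx h2 hG hs hx hxp
      exact Or.inr (Or.inr ⟨h3, hne, x, hx, hxp, hcx⟩)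

end CfsgLib.RankTwoP
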