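/-
The p-groups of rank at most two, p odd (Blackburn).
-/
import Cfsg.Agent.Lib.RankTwoP.Noncentral
import Cfsg.Agent.Lib.PGroups.MaximalClass
import Cfsg.Agent.Lib.PGroups.NormalAbelian
import Cfsg.Prelude.Def_CaseTheorems

set_option autoImplicit false
set_option linter.style.haveILetI false

namespace CfsgLib.RankTwoP

variable {G : Type*} [Group G] [Finite G] {p : ℕ} [hp : Fact p.Prime] {E C : Subgroup G}
  (h : Base p E C) (hidx : C.index = p) (h2 : p ≠ 2) (hG : IsPGroup p G)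

include h hidx hG in
/-- The two families with a complement to an abelian subgroup of index `p`. -/
theorem families_of_split {n : ℕ} (hn : Nat.card G = p ^ n) {x c : G} (hx : x ∉ C) (hxp : x ^ p = 1)
    (hcC : c ∈ C) (hC : C = E ⊔ Subgroup.zpowers c) (hdE' : c⁻¹ * (x⁻¹ * c * x) ∈ E) (h2 : p ≠ 2) :
    (3 ≤ n ∧ ∃ x y z : G, Subgroup.closure ({x, y, z} : Set G) = ⊤ ∧ x ^ p = 1 ∧ y ^ p = 1 ∧
        z ^ p ^ (n - 2) = 1 ∧ x * z = z * x ∧ y * z = z * y ∧ x⁻¹ * y * x = y * z ^ p ^ (n - 3)) ∨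
    (4 ≤ n ∧ ∃ (s : ℕ) (x y z : G), (s = 1 ∨ ¬ IsSquare (s : ZMod p)) ∧
        Subgroup.closure ({x, y, z} : Set G) = ⊤ ∧
        x ^ p = 1 ∧ y ^ p = 1 ∧ z ^ p ^ (n - 2) = 1 ∧ y * z = z * y ∧
        x⁻¹ * y * x = y * z ^ (s * p ^ (n - 3)) ∧ x⁻¹ * z * x = y * z) := by
  have := h.normal
  have hCn := h.normalC
  have hodd := PGroups.odd_prime h2
  -- generation
  have hgen : ∀ {x' y z : G}, x' ∉ C → y ∈ E → y ∉ Subgroup.center G → z ∈ C →
      C ≤ E ⊔ Subgroup.zpowers z →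
      (E ⊓ Subgroup.center G : Subgroup G) ≤ Subgroup.closure ({x', y, z} : Set G) →
      Subgroup.closure ({x', y, z} : Set G) = ⊤ := by
    intro x' y z hx' hy hyZ hz hCz hZH
    set H := Subgroup.closure ({x', y, z} : Set G)
    have hyH : y ∈ H := Subgroup.subset_closure (Or.inr (Or.inl rfl))
    have hzH : z ∈ H := Subgroup.subset_closure (Or.inr (Or.inr rfl))
    have hEH : E ≤ H := by
      have hlt : (E ⊓ Subgroup.center G : Subgroup G) < E ⊓ H := by
        refine lt_of_le_of_ne (le_inf inf_le_left hZH) fun he => hyZ ?_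
        exact (he.symm ▸ Subgroup.mem_inf.2 ⟨hy, hyH⟩ : y ∈ E ⊓ Subgroup.center G).2
      have h1 := PGroups.prime_mul_card_le hG hlt
      rw [card_inf_center h hidx hG, ← pow_two, ← h.card] at h1
      exact inf_eq_left.1 (Subgroup.eq_of_le_of_card_ge inf_le_left h1)
    have hCH : C ≤ H := hCz.trans (sup_le hEH (Subgroup.zpowers_le.2 hzH))
    exact (isCoatom_C hidx).2 H (lt_of_le_of_ne hCH fun he =>
      hx' (he.symm ▸ Subgroup.subset_closure (Or.inl rfl)))
  obtain ⟨e, he, hne⟩ := exists_not_commute h hx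
  obtain ⟨hsE, hsZ⟩ := step_mem_center h hG he x
  have hs1 : e⁻¹ * (x⁻¹ * e * x) ≠ 1 := fun hh => hne (by
    calc e * x = x * e * (e⁻¹ * (x⁻¹ * e * x)) := by group
      _ = x * e := by rw [hh, mul_one])
  -- every element of `E ∩ Z(G)` is the commutator of an element of `E` with `x`
  have hsurj : ∀ z ∈ E, z ∈ Subgroup.center G → ∃ y ∈ E, x⁻¹ * y * x = y * z := by
    intro z hzE hzZ
    obtain ⟨i, hi⟩ := exists_zpow_eq h hidx hG hsE hsZ hs1 hzE hzZ
    refine ⟨e ^ i, zpow_mem he i, ?_⟩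
    have h0 := map_zpow (MulAut.conj x⁻¹) e i
    simp only [MulAut.conj_apply, inv_inv] at h0
    rw [h0, ← hi, ← (h.commute he (h.le hsE)).mul_zpow, mul_inv_cancel_left]
  have hyZ : ∀ {y z : G}, x⁻¹ * y * x = y * z → z ≠ 1 → y ∉ Subgroup.center G := by
    intro y z hy hz hyc
    rw [mul_assoc, ← Subgroup.mem_center_iff.1 hyc x, inv_mul_cancel_left] at hy
    exact hz (left_eq_mul.1 hy)
  have hcardG : Nat.card G = Nat.card C * p := by rw [← C.card_mul_index, hidx]
  by_cases hcE : c ∈ E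
  · left
    have hCE : C = E := by rw [hC, sup_eq_left.2 (Subgroup.zpowers_le.2 hcE)]
    have hn3 : n = 3 := by
      rw [hCE, h.card, ← pow_succ, hn] at hcardG
      exact Nat.pow_right_injective hp.out.two_le hcardG
    refine ⟨hn3.ge, x, e, e⁻¹ * (x⁻¹ * e * x), ?_, hxp, h.exp _ he, ?_,
      Subgroup.mem_center_iff.1 hsZ x, Subgroup.mem_center_iff.1 hsZ e, ?_⟩
    · refine hgen hx he (hyZ (by group) hs1) (h.le hsE) (hCE.le.trans le_sup_left) ?_
      intro y hy
      obtain ⟨i, hi⟩ := exists_zpow_eq h hidx hG hsE hsZ hs1 hy.1 hy.2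
      exact hi ▸ zpow_mem (Subgroup.subset_closure (show e⁻¹ * (x⁻¹ * e * x) ∈
        ({x, e, e⁻¹ * (x⁻¹ * e * x)} : Set G) from Or.inr (Or.inr rfl))) i
    · rw [hn3, pow_one]; exact h.exp _ hsE
    · rw [hn3, pow_zero, pow_one]; group
  -- the cyclic quotient
  set q := QuotientGroup.mk' E with hq
  obtain ⟨m₀, hm₀⟩ := IsPGroup.iff_orderOf.1 (hG.to_quotient E) (q c)
  rcases m₀ with _ | m
  · exact absurd ((QuotientGroup.eq_one_iff c).1 (orderOf_eq_one_iff.1 (hm₀.trans (pow_zero p)))) hcE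
  have hK : ∀ i : ℤ, c ^ i ∈ E ↔ ((p : ℤ) ^ (m + 1)) ∣ i := fun i => by
    rw [← QuotientGroup.eq_one_iff, QuotientGroup.mk_zpow, ← Nat.cast_pow, ← hm₀,
      orderOf_dvd_iff_zpow_eq_one]
    rfl
  set z := c ^ p ^ (m + 1) with hzdef
  have hzE : z ∈ E := by
    have := (hK ((p : ℤ) ^ (m + 1))).2 dvd_rfl
    rwa [← Nat.cast_pow, zpow_natCast] at this
  have hz1 : z ≠ 1 := fun hz => by
    have h1 : c ^ p ^ m ∈ E := h.small _ (pow_mem hcC _) (by rw [← pow_mul, ← pow_succ]; exact hz)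
    have h2' := (hK ((p ^ m : ℕ) : ℤ)).1 (by rwa [zpow_natCast])
    rw [← Nat.cast_pow, Int.natCast_dvd_natCast, Nat.pow_dvd_pow_iff_le_right hp.out.one_lt] at h2'
    omega
  have hnm : n = m + 4 := by
    have h1 : Nat.card (C.map q) = p ^ (m + 1) := by
      rw [hC, Subgroup.map_sup, show E.map q = ⊥ by
        rw [Subgroup.map_eq_bot_iff, QuotientGroup.ker_mk'], bot_sup_eq, MonoidHom.map_zpowers,
        Nat.card_zpowers, hm₀]
    rw [← Subgroup.relIndex_bot_left, ← Subgroup.relIndex_comap, MonoidHom.comap_bot,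
      QuotientGroup.ker_mk'] at h1
    have h2' := Subgroup.relIndex_mul_relIndex ⊥ E C bot_le h.le
    rw [Subgroup.relIndex_bot_left, Subgroup.relIndex_bot_left, h.card, h1] at h2'
    rw [← h2', ← pow_add, ← pow_succ, hn] at hcardG
    have := Nat.pow_right_injective hp.out.two_le hcardG
    omega
  have hcomm : ∀ a ∈ C, Commute c a := fun a ha => by
    have hle : C ≤ Subgroup.centralizer {c} := by
      rw [hC]
      exact sup_le (fun e he => Subgroup.mem_centralizer_singleton_iff.2 (h.commute he hcC).eq)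
        (Subgroup.zpowers_le.2 (Subgroup.mem_centralizer_singleton_iff.2 rfl))
    exact (Subgroup.mem_centralizer_singleton_iff.1 (hle ha)).symm
  -- `x` centralizes `C / E`
  set d := c⁻¹ * (x⁻¹ * c * x) with hd
  have hd' : x⁻¹ * c * x = c * d := by rw [hd]; group
  have hdC : d ∈ C := mul_mem (inv_mem hcC) (by simpa using hCn.conj_mem c hcC x⁻¹)
  have hdE : d ∈ E := hdE'
  obtain ⟨hgE, hgZ⟩ := step_mem_center h hG hdE x
  set g := d⁻¹ * (x⁻¹ * d * x) with hg
  have hg' : x⁻¹ * d * x = d * g := by rw [hg]; group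
  have hzZ : z ∈ Subgroup.center G := by
    refine mem_center_of_commute h hidx hzE hx ?_
    have h1 : x⁻¹ * z * x = z := by
      have h0 := map_pow (MulAut.conj x⁻¹) c (p ^ (m + 1))
      simp only [MulAut.conj_apply, inv_inv] at h0
      rw [h0, hd', (hcomm d hdC).mul_pow, pow_succ' p m, pow_mul d, h.exp _ hdE, one_pow, mul_one,
        hzdef, pow_succ' p m]
    calc z * x = x * (x⁻¹ * z * x) := by group
      _ = x * z := by rw [h1]
  have hexp : ∀ a : G, a ^ p ^ (m + 1) = z → a ^ p ^ (n - 2) = 1 := fun a ha => by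
    rw [hnm, show m + 4 - 2 = m + 1 + 1 by omega, pow_succ, pow_mul, ha, h.exp _ hzE]
  have hZH : ∀ {S : Set G} {a : G}, a ∈ S → a ^ p ^ (m + 1) = z →
      (E ⊓ Subgroup.center G : Subgroup G) ≤ Subgroup.closure S := fun {S a} ha haz y hy => by
    obtain ⟨i, hi⟩ := exists_zpow_eq h hidx hG hzE hzZ hz1 hy.1 hy.2
    exact hi ▸ haz ▸ zpow_mem (pow_mem (Subgroup.subset_closure ha) _) i
  by_cases hdz : d ∈ Subgroup.center G
  · left
    obtain ⟨y, hyE, hy⟩ := hsurj z hzE hzZ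
    obtain ⟨i, hi⟩ := exists_zpow_eq h hidx hG hzE hzZ hz1 hdE hdz
    set c' := c * y ^ (-i) with hc'
    have hc'z : c' ^ p ^ (m + 1) = z := by
      rw [hc', (h.commute (zpow_mem hyE _) hcC).symm.mul_pow, pow_succ' p m, pow_mul (y ^ (-i)),
        h.exp _ (zpow_mem hyE _), one_pow, mul_one, hzdef, pow_succ' p m]
    have hfix : x⁻¹ * c' * x = c' := by
      have h0 := map_zpow (MulAut.conj x⁻¹) y (-i)
      simp only [MulAut.conj_apply, inv_inv] at h0
      rw [hc', show x⁻¹ * (c * y ^ (-i)) * x = (x⁻¹ * c * x) * (x⁻¹ * y ^ (-i) * x) by group, h0,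
        hy, hd', (h.commute hyE (h.le hzE)).mul_zpow, ← hi,
        show c * z ^ i * (y ^ (-i) * z ^ (-i)) = c * (z ^ i * y ^ (-i)) * z ^ (-i) by group,
        ← Subgroup.mem_center_iff.1 (zpow_mem hzZ i) (y ^ (-i))]
      group
    refine ⟨by omega, x, y, c', ?_, hxp, h.exp _ hyE, hexp c' hc'z, ?_, ?_, ?_⟩
    · refine hgen hx hyE (hyZ hy hz1) (mul_mem hcC (zpow_mem (h.le hyE) _)) ?_
        (hZH (Or.inr (Or.inr rfl)) hc'z)
      rw [hC]
      refine sup_le le_sup_left (Subgroup.zpowers_le.2 ?_)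
      rw [show c = c' * y ^ i by rw [hc']; group]
      exact mul_mem (Subgroup.mem_sup_right (Subgroup.mem_zpowers c'))
        (Subgroup.mem_sup_left (zpow_mem hyE i))
    · calc x * c' = x * (x⁻¹ * c' * x) := by rw [hfix]
        _ = c' * x := by group
    · exact (h.commute hyE (mul_mem hcC (zpow_mem (h.le hyE) _))).eq
    · rw [hy, hnm, show m + 4 - 3 = m + 1 by omega, hc'z]
  · right
    have hg1 : g ≠ 1 := fun hh => hdz (mem_center_of_commute h hidx hdE hx (by
      calc d * x = x * (x⁻¹ * d * x) := by group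
        _ = x * d := by rw [hg', hh, mul_one]))
    obtain ⟨s₁, hs₁⟩ := exists_zpow_eq h hidx hG hzE hzZ hz1 hgE hgZ
    set s₀ : ZMod p := (s₁ : ZMod p) with hs₀
    have hval : ∀ (a b : ℤ), (a : ZMod p) = (b : ZMod p) → z ^ a = z ^ b := fun a b hab => by
      rw [zpow_eq_zpow_iff_modEq, orderOf_eq_prime (h.exp z hzE) hz1]
      exact (ZMod.intCast_eq_intCast_iff a b p).1 hab
    have hs0 : s₀ ≠ 0 := fun hh => hg1 (by
      rw [← hs₁, hval s₁ 0 (by simpa [hs₀] using hh), zpow_zero])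
    obtain ⟨r, s, hrp, hs, hrs⟩ : ∃ r s : ℕ, ¬ p ∣ r ∧ (s = 1 ∨ ¬ IsSquare (s : ZMod p)) ∧
        s₀ * (r : ZMod p) ^ 2 = (s : ZMod p) := by
      by_cases hsq : IsSquare s₀
      · obtain ⟨a, ha⟩ := hsq
        have ha0 : a ≠ 0 := fun hh => hs0 (by rw [ha, hh, mul_zero])
        refine ⟨a⁻¹.val, 1, fun hd => ?_, Or.inl rfl, ?_⟩
        · rw [← ZMod.natCast_eq_zero_iff, ZMod.natCast_zmod_val] at hd
          exact inv_ne_zero ha0 hd
        · rw [ZMod.natCast_zmod_val, ha, Nat.cast_one]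
          field_simp
      · exact ⟨1, s₀.val, hp.out.not_dvd_one, Or.inr (by rwa [ZMod.natCast_zmod_val]),
          by rw [ZMod.natCast_zmod_val, Nat.cast_one, one_pow, mul_one]⟩
    have hgx : x⁻¹ * g * x = g := by
      rw [mul_assoc, ← Subgroup.mem_center_iff.1 hgZ x, inv_mul_cancel_left]
    set y := d ^ r * g ^ r.choose 2 with hy
    have hyE : y ∈ E := mul_mem (pow_mem hdE r) (pow_mem hgE _)
    have h1 : x⁻¹ * g * x = g * 1 := by rw [mul_one, hgx]
    have h11 : x⁻¹ * (1 : G) * x = 1 := by group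
    have hcy : (x ^ r)⁻¹ * c * x ^ r = c * y := by
      have hch := conj_pow_chain hd' hg' h1 h11 (h.commute hdE (h.le hgE))
        (Commute.one_right _) (Commute.one_right _) r
      rw [one_pow, mul_one] at hch
      rw [hch, hy, mul_assoc]
    have hyy : (x ^ r)⁻¹ * y * x ^ r = y * g ^ (r * r) := by
      have hch := conj_pow_chain (u := d) (f := g) (g := 1) (h := 1) hg' h1 (by group) h11
        (Commute.one_right _) (Commute.one_right _) (Commute.one_right _) r
      rw [one_pow, one_pow, mul_one, mul_one] at hch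
      rw [hy, show (x ^ r)⁻¹ * (d ^ r * g ^ r.choose 2) * x ^ r =
        ((x ^ r)⁻¹ * d ^ r * x ^ r) * ((x ^ r)⁻¹ * g ^ r.choose 2 * x ^ r) by group]
      have h0 := map_pow (MulAut.conj (x ^ r)⁻¹) d r
      simp only [MulAut.conj_apply, inv_inv] at h0
      rw [h0, hch, (h.commute hdE (pow_mem (h.le hgE) r)).mul_pow, ← pow_mul,
        mul_assoc ((x ^ r)⁻¹), ← Subgroup.mem_center_iff.1 (pow_mem hgZ _) (x ^ r),
        inv_mul_cancel_left, mul_assoc, ← pow_add, add_comm, pow_add, mul_assoc]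
    have hgs : g ^ (r * r) = z ^ s := by
      rw [← hs₁, ← zpow_natCast, ← zpow_mul, ← zpow_natCast z s]
      exact hval _ _ (by push_cast; rw [← hs₀, ← hrs]; ring)
    refine ⟨by omega, s, x ^ r, y, c, hs, ?_, ?_, h.exp _ hyE, hexp c rfl, ?_, ?_, ?_⟩
    · refine hgen (fun hh => ?_) hyE (fun hyc => ?_) hcC hC.le (hZH (Or.inr (Or.inr rfl)) rfl)
      · obtain ⟨a, b, hab⟩ := (((Nat.prime_iff_prime_int.1 hp.out).irreducible.coprime_iff_not_dvd).2
          (show ¬ (p : ℤ) ∣ (r : ℤ) from fun hd => hrp (Int.natCast_dvd_natCast.1 hd)))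
        apply hx
        rw [show x = (x ^ p) ^ a * (x ^ r) ^ b by
          rw [← zpow_natCast x p, ← zpow_natCast x r, ← zpow_mul, ← zpow_mul, ← zpow_add,
            mul_comm (p : ℤ), mul_comm (r : ℤ), hab, zpow_one]]
        rw [hxp, one_zpow, one_mul]
        exact zpow_mem hh b
      · have hrr : g ^ (r * r) = 1 := by
          rw [mul_assoc, ← Subgroup.mem_center_iff.1 hyc (x ^ r), inv_mul_cancel_left] at hyy
          exact left_eq_mul.1 hyy
        have h2d := orderOf_dvd_of_pow_eq_one hrr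
        rw [orderOf_eq_prime (h.exp _ hgE) hg1, hp.out.dvd_mul] at h2d
        exact h2d.elim hrp hrp
    · rw [← pow_mul, mul_comm, pow_mul, hxp, one_pow]
    · exact (h.commute hyE hcC).eq
    · rw [hyy, hgs, hnm, show m + 4 - 3 = m + 1 by omega, hzdef, ← pow_mul, mul_comm]
    · rw [hcy, (h.commute hyE hcC).eq]

end CfsgLib.RankTwoP
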